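import Cfsg.Agent.Lib.GoodInvol.Local
import Cfsg.Agent.Lib.GoodInvol.Companion.Arith
import Cfsg.Agent.Lib.GoodInvol.Companion.Kind
import Cfsg.Agent.Lib.GoodInvol.CaseBBase

/-!
# An element with involutory image fixing a second point, unitary type

`PairCfg` is the situation at an involution `u` of unitary type with pointwise part `⟨u⟩`. An element `g` of `T` fixing
`x`, outside `⟨u⟩`, with square in `⟨u⟩` fixes as many points as a chord: its centraliser in `Q` is `E`, and the `q ^ 2`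
elements of the classes it fixes are the ones it inverts, all of the shape `y g y⁻¹ g⁻¹`.
-/

set_option autoImplicit false
set_option linter.style.haveILetI false
set_option linter.unusedSectionVars false

namespace Cfsg.Agent.GoodInvol

open Subgroup MulAction

universe u

/-- A Bender group with parameters `(r, 3)` has order dividing the one of `U3(q)`. -/
theorem BenderParams.dvd_card_unitary {L : Type u} [Group L] [Finite L] (hL : SEBender.IsBender L) {r : ℕ}
    (hP : BenderParams L r 3) :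
    Nat.card L ∣ (2 ^ r) ^ 3 * ((2 ^ (3 * r) + 1) * (2 ^ (2 * r) - 1)) := by
  haveI : Fact (Nat.Prime 2) := ⟨Nat.prime_two⟩
  have huniq : ∀ {n e : ℕ}, BenderParams L n e → n = r ∧ e = 3 := fun {n e} hn => by
    let P : Sylow 2 L := default
    obtain ⟨h1, h2⟩ := hn.sylow P
    obtain ⟨h1', h2'⟩ := hP.sylow P
    rw [h1] at h1'
    rw [h2] at h2'
    have e1 := Nat.pow_right_injective le_rfl h2'
    have e2 := Nat.pow_right_injective le_rfl h1'
    subst e1
    exact ⟨rfl, Nat.eq_of_mul_eq_mul_right (by have := hP.two_le; omega) e2⟩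
  rcases hL with ⟨F, _, _, ⟨n, hn, hF⟩, ⟨f⟩⟩ | ⟨F, _, _, m, hm, hF, ⟨f⟩⟩ | ⟨F, _, _, n, hn, hF, ⟨f⟩⟩
  · haveI : CharP F 2 := charP_of_card_eq_prime_pow hF
    obtain ⟨g⟩ := SEMain.psl_equiv_sl (F := F)
    exact absurd (huniq ((params_sl_two hn hF).congr (f.trans g))).2 (by norm_num)
  · have h : Suzuki.SzField F m := ⟨hm, hF⟩
    exact absurd (huniq ((params_sz h).congr (f.trans (Suzuki.minorEquiv h).symm))).2 (by norm_num)
  · obtain rfl := (huniq ((params_psu hn hF).congr f)).1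
    rcases ((chordKind_psu hn hF).congr f).kind with ⟨he, -, -⟩ | ⟨-, -, h⟩
    · exact absurd he (by norm_num)
    · exact h

variable {G : Type u} [Group G] [Finite G] {Ω : Type u} [MulAction G Ω] [Finite Ω] [FaithfulSMul G Ω] {D : Set G}

/-- The situation at an involution of unitary type with pointwise part `⟨u⟩`. -/
structure PairCfg (D : Set G) (u : G) (a x : Ω) (T : Sylow 2 (ptC u a)) (E Q K K1 : Subgroup G) (r : ℕ) : Prop where
  hu : orderOf u = 2
  hbad : ¬ OneFix Ω u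
  ha : u • a = a
  hx : u • x = x
  hxa : x ≠ a
  hE : ESet D u a (tSub T) E
  hW : ∀ g ∈ wker Ω u (tSub T), g = 1 ∨ g = u
  hL : Local D u a x (tSub T) E Q K K1 r 3

namespace PairCfg

variable {u : G} {a x : Ω} {T : Sylow 2 (ptC u a)} {E Q K K1 : Subgroup G} {r : ℕ}
  (C : PairCfg D u a x T E Q K K1 r)
include C

theorem four_le : 4 ≤ 2 ^ r := (Nat.pow_le_pow_right two_pos C.hL.two_le : 2 ^ 2 ≤ 2 ^ r)

theorem mem_u {t : G} (ht : t ∈ tSub T) : Commute t u := (mem_ptC.1 (map_subtype_le _ ht)).1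

theorem mem_a {t : G} (ht : t ∈ tSub T) : t • a = a := (mem_ptC.1 (map_subtype_le _ ht)).2

theorem fix_smul {g : G} (hg : Commute g u) {z : Ω} (hz : u • z = z) : u • g • z = g • z := by
  rw [← mul_smul, ← hg.eq, mul_smul, hz]

theorem conjQ (h : Crit D Ω) {g : G} (hg : g ∈ tSub T) {y : G} (hy : y ∈ Q) : g * y * g⁻¹ ∈ Q :=
  C.hL.mem_Q.2 ⟨mul_mem (mul_mem hg (C.hL.Q_le hy)) (inv_mem hg), h.conj_genC (C.mem_u hg) (C.hL.Q_gen hy)⟩

theorem eq_of_smul_x {y z : G} (hy : y ∈ Q) (hz : z ∈ Q) (he : y • x = z • x) : y = z := by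
  have hu' : u • y • x = y • x := C.fix_smul (C.mem_u (C.hL.Q_le hy)) C.hx
  have hne : y • x ≠ a := fun e => C.hxa (MulAction.injective y (e.trans (C.mem_a (C.hL.Q_le hy)).symm))
  obtain ⟨v, -, hv⟩ := C.hL.reg _ hu' hne
  exact (hv y ⟨hy, rfl⟩).trans (hv z ⟨hz, he.symm⟩).symm

theorem smul_eq_iff_commute (h : Crit D Ω) {g : G} (hg : g ∈ tSub T) (hgx : g • x = x) {y : G} (hy : y ∈ Q) :
    g • y • x = y • x ↔ Commute g y := by
  have e : g • y • x = (g * y * g⁻¹) • x := by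
    rw [mul_smul, mul_smul, inv_smul_eq_iff.2 hgx.symm]
  refine ⟨fun h1 => mul_inv_eq_iff_eq_mul.1 (C.eq_of_smul_x (C.conjQ h hg hy) hy (e.symm.trans h1)), fun h1 => ?_⟩
  rw [e, mul_inv_eq_iff_eq_mul.2 h1.eq]

/-- An element of `T` fixing `x` and centralising `Q` is one or `u`. -/
theorem eq_of_cen (h : Crit D Ω) {g : G} (hg : g ∈ tSub T) (hgx : g • x = x) (hc : ∀ y ∈ Q, Commute g y) :
    g = 1 ∨ g = u := by
  refine C.hW g ⟨hg, fun z hz => ?_⟩
  by_cases hza : z = a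
  · rw [hza]; exact C.mem_a hg
  · obtain ⟨y, ⟨hy, rfl⟩, -⟩ := C.hL.reg z hz hza
    exact (C.smul_eq_iff_commute h hg hgx hy).2 (hc y hy)

/-- The square of `g` centralises what commutes with `u`. -/
theorem sq_cen {g : G} (hg2 : g * g = 1 ∨ g * g = u) {c : G} (hc : Commute c u) : Commute c (g * g) := by
  rcases hg2 with e | e <;> rw [e]
  · exact Commute.one_right c
  · exact hc

/-- The centraliser of `g` in `genC` is transitive on its points among those of `u`. -/
theorem exists_smul_commute (h : Crit D Ω) {g : G} (hgu : Commute g u) (hg2 : g * g = 1 ∨ g * g = u) {p p' : Ω}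
    (hp : u • p = p) (hp' : u • p' = p') (hgp : g • p = p) (hgp' : g • p' = p') :
    ∃ c ∈ genC D u, Commute c g ∧ c • p = p' := by
  classical
  have key : ∀ p : Ω, u • p = p → g • p = p → ∃ d ∈ cmem D u, Commute d g ∧ d • p = p := by
    intro p hp hgp
    by_contra! hno
    refine Nat.not_even_iff_odd.2 (h.odd_cdat C.hu hp) (even_ncard_of_invol (Set.toFinite _)
      (fun d => g * d * g⁻¹) (fun d hd => ⟨⟨h.conj g d hd.1.1, ?_⟩, ?_⟩) (fun d hd => ?_) fun d hd e => ?_)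
    · rw [mul_smul, mul_smul, inv_smul_eq_iff.2 hgp.symm, hd.1.2, hgp]
    · exact (hgu.mul_left hd.2).mul_left hgu.inv_left
    · show g * (g * d * g⁻¹) * g⁻¹ = d
      rw [show g * (g * d * g⁻¹) * g⁻¹ = (g * g) * d * (g * g)⁻¹ by group, ← (C.sq_cen hg2 hd.2).eq,
        mul_inv_cancel_right]
    · exact hno d ⟨hd.1.1, hd.2⟩ (mul_inv_eq_iff_eq_mul.1 e).symm hd.1.2
  by_cases hpp : p = p'
  · exact ⟨1, one_mem _, Commute.one_left g, by rw [one_smul, hpp]⟩
  obtain ⟨d, hd, hdg, hdp⟩ := key p hp hgp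
  obtain ⟨d', hd', hd'g, hd'p⟩ := key p' hp' hgp'
  obtain ⟨c, hc, -, hcp⟩ := h.exists_conj hd.1 hd'.1 hdp hd'p hpp
  refine ⟨c, closure_mono (Set.insert_subset hd (Set.singleton_subset_iff.2 hd')) hc, ?_, hcp⟩
  refine mem_centralizer_singleton_iff.1 ((closure_le (Subgroup.centralizer ({g} : Set G))).2 ?_ hc)
  rintro z (rfl | rfl)
  · exact mem_centralizer_singleton_iff.2 hdg.eq
  · exact mem_centralizer_singleton_iff.2 hd'g.eq

/-- The data of the classes fixed by `g`. -/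
structure Chord3 (u : G) (E Q : Subgroup G) (g : G) (r : ℕ) : Prop where
  card_cen : Nat.card ↥(Q ⊓ Subgroup.centralizer ({g} : Set G)) = 2 ^ r
  card_phi : {y : G | y ∈ Q ∧ y⁻¹ * (g * y * g⁻¹) ∈ E}.ncard = 2 ^ r * 2 ^ r
  cen_E : ∀ e ∈ E, Commute g e
  cen_eq : ∀ y ∈ Q, Commute g y → y ∈ E
  inv : ∀ y ∈ Q, y⁻¹ * (g * y * g⁻¹) ∈ E → g * y * g⁻¹ = y⁻¹
  conj : ∀ y ∈ Q, y⁻¹ * (g * y * g⁻¹) ∈ E → ∃ z ∈ Q, z * g * z⁻¹ = y * g

/-- An element with involutory image: the chord. -/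
theorem chord (h : Crit D Ω) (hB : Below.{u} (Nat.card G)) (hgen : closure D = ⊤) {g : G} (hg : g ∈ tSub T)
    (hgx : g • x = x) (hg2 : g * g = 1 ∨ g * g = u) (hne : g ≠ 1) (hneu : g ≠ u) :
    Chord3 u E Q g r := by
  classical
  haveI : Fact (Nat.Prime 2) := ⟨Nat.prime_two⟩
  have hgu := C.mem_u hg
  set q := 2 ^ r with hq
  set Cg := Q ⊓ Subgroup.centralizer ({g} : Set G) with hCg
  have hcQ : Nat.card Q = q * q * q := by rw [C.hL.card_Q, hq, ← pow_add, ← pow_add]; ring_nf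
  -- the elements `z g z⁻¹ g⁻¹`
  set I := (fun z => z * g⁻¹) '' SixInv.orb Q g with hI
  set Φ := {y : G | y ∈ Q ∧ y⁻¹ * (g * y * g⁻¹) ∈ E} with hΦ
  have hgsq : ∀ {y : G}, y ∈ Q → Commute y (g * g) := fun hy => C.sq_cen hg2 (C.mem_u (C.hL.Q_le hy))
  have hImem : ∀ z ∈ I, ∃ y ∈ Q, z = y * g * y⁻¹ * g⁻¹ := by
    rintro _ ⟨_, ⟨y, hy, rfl⟩, rfl⟩
    exact ⟨y, hy, rfl⟩
  have hIinv : ∀ z ∈ I, z ∈ Q ∧ g * z * g⁻¹ = z⁻¹ := by
    intro z hz
    obtain ⟨y, hy, rfl⟩ := hImem z hz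
    refine ⟨?_, ?_⟩
    · rw [show y * g * y⁻¹ * g⁻¹ = y * (g * y⁻¹ * g⁻¹) by group]
      exact mul_mem hy (C.conjQ h hg (inv_mem hy))
    · rw [show g * (y * g * y⁻¹ * g⁻¹) * g⁻¹ = g * y * g⁻¹ * ((g * g) * y⁻¹ * (g * g)⁻¹) by group,
        ← (hgsq hy).inv_left.eq, mul_inv_cancel_right]
      group
  have hIΦ : I ⊆ Φ := fun z hz => by
    obtain ⟨hzQ, hzi⟩ := hIinv z hz
    refine ⟨hzQ, ?_⟩
    rw [hzi, ← mul_inv_rev]
    exact inv_mem (C.hL.sq z hzQ)
  have hIcard : I.ncard * Nat.card Cg = q * q * q := by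
    rw [Set.ncard_image_of_injective _ (mul_left_injective g⁻¹), ← hcQ]
    exact SixInv.orb_card Q g
  -- the classes of the commutators
  let E0 : Subgroup Q := E.subgroupOf Q
  haveI : E0.Normal := ⟨fun e he y => by
    rw [mem_subgroupOf] at he ⊢
    show (y : G) * e * (y : G)⁻¹ ∈ E
    rw [← (C.hL.cen _ he y y.2).eq, mul_inv_cancel_right]
    exact he⟩
  have hqc : ∀ a b : Q ⧸ E0, a * b = b * a := fun a b => by
    induction a using QuotientGroup.induction_on with
    | _ a =>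
      induction b using QuotientGroup.induction_on with
      | _ b =>
        rw [← QuotientGroup.mk_mul, ← QuotientGroup.mk_mul, QuotientGroup.eq, mem_subgroupOf]
        have := C.hL.comm _ (inv_mem b.2) _ (inv_mem a.2)
        simpa [mul_assoc] using this
  let σ : Q →* Q :=
    { toFun := fun y => ⟨g * (y : G) * g⁻¹, C.conjQ h hg y.2⟩
      map_one' := Subtype.ext (by simp)
      map_mul' := fun y z => Subtype.ext (by simp [mul_assoc]) }
  let π := QuotientGroup.mk' E0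
  let ψ : Q →* Q ⧸ E0 :=
    { toFun := fun y => π y⁻¹ * π (σ y)
      map_one' := by simp
      map_mul' := fun y z => by
        rw [mul_inv_rev, map_mul, map_mul, map_mul, hqc (π z⁻¹) (π y⁻¹)]
        simp only [mul_assoc]
        rw [← mul_assoc (π z⁻¹), hqc (π z⁻¹) (π (σ y)), mul_assoc] }
  have hker : ∀ y : Q, y ∈ ψ.ker ↔ (y : G) ∈ Φ := fun y => by
    rw [MonoidHom.mem_ker, show ψ y = π (y⁻¹ * σ y) from (map_mul π _ _).symm, QuotientGroup.mk'_apply,
      QuotientGroup.eq_one_iff, mem_subgroupOf]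
    exact ⟨fun he => ⟨y.2, he⟩, fun he => he.2⟩
  have hΦcard : Φ.ncard = Nat.card ψ.ker := by
    rw [show Φ = Subtype.val '' (ψ.ker : Set Q) from Set.ext fun y =>
      ⟨fun hy => ⟨⟨y, hy.1⟩, (hker _).2 hy, rfl⟩, fun ⟨z, hz, e⟩ => e ▸ (hker z).1 hz⟩,
      Set.ncard_image_of_injective _ Subtype.val_injective, ← Nat.card_coe_set_eq]
    rfl
  have hrange : Nat.card ψ.range * Φ.ncard = q * q * q := by
    rw [hΦcard, ← hcQ, ← Subgroup.index_ker, mul_comm, Subgroup.card_mul_index]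
  have hIle : I.ncard ≤ Nat.card ψ.range * q := by
    have h1 : I ⊆ Subtype.val '' ((ψ.range.comap π : Subgroup Q) : Set Q) := fun z hz => by
      obtain ⟨y, hy, rfl⟩ := hImem z hz
      refine ⟨⟨_, (hIinv _ hz).1⟩, ⟨(⟨y, hy⟩ : Q)⁻¹, ?_⟩, rfl⟩
      show π (((⟨y, hy⟩ : Q)⁻¹)⁻¹) * π (σ (⟨y, hy⟩ : Q)⁻¹) = _
      rw [← map_mul]
      congr 1
      refine Subtype.ext ?_
      show (y⁻¹)⁻¹ * (g * y⁻¹ * g⁻¹) = y * g * y⁻¹ * g⁻¹
      group
    refine (Set.ncard_le_ncard h1).trans ((Set.ncard_image_le (Set.toFinite _)).trans (le_of_eq ?_))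
    rw [← Nat.card_coe_set_eq]
    show Nat.card (ψ.range.comap π : Subgroup Q) = _
    refine Nat.eq_of_mul_eq_mul_right (Nat.pos_of_ne_zero ψ.range.index_ne_zero_of_finite) ?_
    have e1 := (ψ.range.comap π).card_mul_index
    rw [Subgroup.index_comap_of_surjective _ (QuotientGroup.mk'_surjective E0)] at e1
    have e2 := ψ.range.card_mul_index
    have e3 := E0.card_mul_index
    have hE0 : Nat.card E0 = q := by
      rw [Nat.card_congr (subgroupOfEquivOfLe C.hL.eset_le).toEquiv, C.hL.card_eset]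
    rw [Subgroup.index_eq_card, ← e2, hE0] at e3
    rw [e1, ← e3]
    ring
  have hqpos : 0 < q := Nat.two_pow_pos r
  have hlow : q ≤ Nat.card Cg := by
    have h1 := Set.ncard_le_ncard hIΦ
    have h2 : q * q * q * (q * q) ≤ q * q * q * (Nat.card Cg * Nat.card Cg) := by
      calc q * q * q * (q * q) = q * (q * q * q * q) := by ring
        _ = q * (I.ncard * Nat.card Cg * q) := by rw [hIcard]
        _ ≤ q * (Φ.ncard * Nat.card Cg * q) := by gcongr
        _ = Φ.ncard * (q * q * Nat.card Cg) := by ring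
        _ ≤ Φ.ncard * (Nat.card ψ.range * Nat.card Cg * Nat.card Cg) := by
          refine Nat.mul_le_mul_left _ ?_
          have h3 : I.ncard * Nat.card Cg ≤ Nat.card ψ.range * q * Nat.card Cg := Nat.mul_le_mul_right _ hIle
          rw [hIcard] at h3
          refine Nat.le_of_mul_le_mul_left (?_ : q * (q * q * Nat.card Cg) ≤
            q * (Nat.card ψ.range * Nat.card Cg * Nat.card Cg)) hqpos
          calc q * (q * q * Nat.card Cg) = q * q * q * Nat.card Cg := by ring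
            _ ≤ Nat.card ψ.range * q * Nat.card Cg * Nat.card Cg := Nat.mul_le_mul_right _ h3
            _ = _ := by ring
        _ = _ := by rw [← hrange]; ring
    exact Nat.mul_self_le_mul_self_iff.1 (Nat.le_of_mul_le_mul_left h2 (by positivity))
  -- the orbit of `a` under the centraliser
  obtain ⟨k, hk⟩ := IsPGroup.iff_card.1 (((T.2.map _).to_le C.hL.Q_le).to_le
    (inf_le_left : Cg ≤ Q) : IsPGroup 2 Cg)
  have hinj : Set.InjOn (fun y : G => y • x) (Q : Set G) := fun y hy z hz e => C.eq_of_smul_x hy hz e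
  set P := {p : Ω | u • p = p ∧ g • p = p} with hP
  have hPeq : P = insert a ((fun y : G => y • x) '' (Cg : Set G)) := by
    ext p
    constructor
    · rintro ⟨hp, hgp⟩
      by_cases hpa : p = a
      · exact Or.inl hpa
      obtain ⟨y, ⟨hy, rfl⟩, -⟩ := C.hL.reg p hp hpa
      exact Or.inr ⟨y, ⟨hy, mem_centralizer_singleton_iff.2 ((C.smul_eq_iff_commute h hg hgx hy).1 hgp).symm.eq⟩, rfl⟩
    · rintro (rfl | ⟨y, hy, rfl⟩)
      · exact ⟨C.ha, C.mem_a hg⟩
      · exact ⟨C.fix_smul (C.mem_u (C.hL.Q_le hy.1)) C.hx, (C.smul_eq_iff_commute h hg hgx hy.1).2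
          (Commute.symm (mem_centralizer_singleton_iff.1 hy.2))⟩
  have hPcard : P.ncard = 2 ^ k + 1 := by
    rw [hPeq, Set.ncard_insert_of_notMem ?_ (Set.toFinite _),
      Set.ncard_image_of_injOn (hinj.mono fun y hy => hy.1), ← hk, ← Nat.card_coe_set_eq]
    · rfl
    · rintro ⟨y, hy, e⟩
      exact C.hxa (MulAction.injective y ((show y • x = a from e).trans (C.mem_a (C.hL.Q_le hy.1)).symm))
  have hdvd : 2 ^ k + 1 ∣ (2 ^ r) ^ 3 * ((2 ^ (3 * r) + 1) * (2 ^ (2 * r) - 1)) := by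
    set J := genC D u ⊓ Subgroup.centralizer ({g} : Set G) with hJ
    have horb : orbit J a = P := by
      ext p
      constructor
      · rintro ⟨c, rfl⟩
        refine ⟨C.fix_smul (commute_of_genC c.2.1) C.ha, ?_⟩
        show g • (c : G) • a = (c : G) • a
        rw [← mul_smul, ← (mem_centralizer_singleton_iff.1 c.2.2), mul_smul, C.mem_a hg]
      · rintro ⟨hp, hgp⟩
        obtain ⟨c, hc, hcg, hca⟩ := C.exists_smul_commute h hgu hg2 C.ha hp (C.mem_a hg) hgp
        exact ⟨⟨c, hc, mem_centralizer_singleton_iff.2 hcg.eq⟩, hca⟩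
    have h1 : P.ncard ∣ (fixStab Ω u).relIndex J := by
      rw [← horb, ← index_stabilizer, relIndex]
      exact index_dvd_of_le fun c hc => mem_stabilizer_iff.2 (mem_subgroupOf.1 hc a C.ha)
    obtain ⟨r', e', hPar, hfix', hqE'⟩ :=
      h.exists_fix_params hB hgen C.hu C.hbad C.ha (map_subtype_le _) C.hE
    obtain rfl : r' = r := Nat.pow_right_injective le_rfl (hqE'.symm.trans C.hL.card_eset)
    obtain rfl : e' = 3 := by
      have h2 := C.hL.card_fix
      rw [hfix'] at h2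
      exact Nat.eq_of_mul_eq_mul_right (by have := C.hL.two_le; omega)
        (Nat.pow_right_injective le_rfl (Nat.add_right_cancel h2))
    rw [← hPcard]
    refine h1.trans ?_
    rw [relIndex_fixStab (D := D) (Ω := Ω) (inf_le_left : J ≤ genC D u)]
    exact (card_subgroup_dvd_card _).trans
      (BenderParams.dvd_card_unitary (h.isBender_induced hB hgen C.hu C.hbad C.ha C.hE) hPar)
  have hhi : k < 3 * r := by
    refine (Nat.pow_lt_pow_iff_right one_lt_two).1 ?_
    rw [← hk, ← C.hL.card_Q]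
    refine lt_of_le_of_ne (card_le_of_le inf_le_left) fun e => ?_
    have h1 : Cg = Q := eq_of_le_of_card_ge inf_le_left e.ge
    rcases C.eq_of_cen h hg hgx fun y hy =>
      Commute.symm (mem_centralizer_singleton_iff.1 (h1.ge hy).2) with e1 | e1
    exacts [hne e1, hneu e1]
  have hkr : k = r := chord_unitary C.hL.two_le
    ((Nat.pow_le_pow_iff_right one_lt_two).1 (hk ▸ hlow)) hhi hdvd
  have hCq : Nat.card Cg = q := by rw [hk, hkr]
  have hI2 : I.ncard = q * q := Nat.eq_of_mul_eq_mul_right hqpos (hCq ▸ hIcard)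
  have hΦle : Φ.ncard ≤ q * q := by
    have h1 := hIle
    rw [hI2] at h1
    have h2 : q ≤ Nat.card ψ.range := Nat.le_of_mul_le_mul_right h1 hqpos
    refine Nat.le_of_mul_le_mul_left (?_ : q * Φ.ncard ≤ q * (q * q)) hqpos
    calc q * Φ.ncard ≤ Nat.card ψ.range * Φ.ncard := Nat.mul_le_mul_right _ h2
      _ = _ := by rw [hrange]; ring
  have heq : I = Φ := Set.eq_of_subset_of_ncard_le hIΦ (hI2 ▸ hΦle)
  have hinv : ∀ y ∈ Q, y⁻¹ * (g * y * g⁻¹) ∈ E → g * y * g⁻¹ = y⁻¹ := fun y hy he =>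
    (hIinv y (heq.ge ⟨hy, he⟩)).2
  have hcE : ∀ e ∈ E, Commute g e := fun e he => mul_inv_eq_iff_eq_mul.1 (by
    rw [hinv e (C.hL.eset_le he) (mul_mem (inv_mem he) (C.hE.norm g hg e he)),
      inv_eq_of_mul_eq_one_right (C.hE.sq e he)])
  refine ⟨hCq, show Φ.ncard = q * q from heq ▸ hI2, hcE, fun y hy hc => ?_, hinv, fun y hy he => ?_⟩
  · have h1 : E = Cg := eq_of_le_of_card_ge (fun e he => ⟨C.hL.eset_le he, mem_centralizer_singleton_iff.2
      (hcE e he).symm.eq⟩) (by rw [hCq, C.hL.card_eset])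
    exact h1.ge ⟨hy, mem_centralizer_singleton_iff.2 hc.symm.eq⟩
  · obtain ⟨z, hz, rfl⟩ := hImem y (heq.ge ⟨hy, he⟩)
    exact ⟨z, hz, by group⟩

end PairCfg

end Cfsg.Agent.GoodInvol
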