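import Cfsg.Agent.Lib.GoodInvol.CaseBSplit
import Mathlib.GroupTheory.QuotientGroup.Basic

/-!
# A large 2-group on two points, unitary type: the situation

`LargeBase` collects the hypotheses. The pure part is `UnitaryType`, the facts on automorphisms of the regular
subgroup modulo those trivial on the central quotient; `TwistCfg` is the structure of the group `P` fixing the two
points: `⟨u⟩ × C` with `C` cyclic, whose involution `z` inverts the preimage of its fixed classes.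
-/

set_option autoImplicit false
set_option linter.style.haveILetI false
set_option linter.unusedSectionVars false

namespace Cfsg.Agent.GoodInvol

open Subgroup MulAction

universe u

/-- The automorphisms acting trivially modulo the centre. -/
def fixCen (Q : Type u) [Group Q] : Subgroup (MulAut Q) where
  carrier := {φ | ∀ x, x⁻¹ * φ x ∈ Subgroup.center Q}
  one_mem' := fun x => by simp
  mul_mem' := fun {φ ψ} hφ hψ x => by
    show x⁻¹ * φ (ψ x) ∈ _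
    rw [show x⁻¹ * φ (ψ x) = x⁻¹ * ψ x * ((ψ x)⁻¹ * φ (ψ x)) by group]
    exact mul_mem (hψ x) (hφ _)
  inv_mem' := fun {φ} hφ x => by
    have h1 := inv_mem (hφ (φ⁻¹ x))
    rwa [MulAut.apply_inv_self, mul_inv_rev, inv_inv] at h1

theorem mem_fixCen {Q : Type u} [Group Q] {φ : MulAut Q} :
    φ ∈ fixCen Q ↔ ∀ x, x⁻¹ * φ x ∈ Subgroup.center Q := Iff.rfl

instance fixCen_normal (Q : Type u) [Group Q] : (fixCen Q).Normal :=
  ⟨fun φ hφ ψ x => by
    show x⁻¹ * ψ (φ (ψ⁻¹ x)) ∈ _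
    have h1 := hφ (ψ⁻¹ x)
    have h2 : x⁻¹ * ψ (φ (ψ⁻¹ x)) = ψ ((ψ⁻¹ x)⁻¹ * φ (ψ⁻¹ x)) := by rw [map_mul, map_inv, MulAut.apply_inv_self]
    rw [h2, Subgroup.mem_center_iff]
    intro y
    rw [← MulAut.apply_inv_self Q ψ y, ← map_mul, ← map_mul, Subgroup.mem_center_iff.1 h1]⟩

/-- The automorphisms of the regular subgroup of unitary type modulo the centre. -/
structure UnitaryType (Q : Type u) [Group Q] (r : ℕ) : Prop where
  cen_fix : ∀ φ : MulAut Q, φ * φ ∈ fixCen Q → ∀ z ∈ Subgroup.center Q, φ z = z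
  classes : ∀ φ : MulAut Q, φ * φ ∈ fixCen Q → φ ∉ fixCen Q →
    Nat.card {x : Q // x⁻¹ * φ x ∈ Subgroup.center Q} ≤ 2 ^ r * Nat.card (Subgroup.center Q)
  sq_of_fix : ∀ φ : MulAut Q, (∀ z ∈ Subgroup.center Q, φ z = z) → (∃ k : ℕ, φ ^ 2 ^ k ∈ fixCen Q) →
    φ * φ ∈ fixCen Q
  two_group : ∀ R : Subgroup (MulAut Q ⧸ fixCen Q), IsPGroup 2 R → IsCyclic R ∧ Nat.card R ≤ 2 * r

variable {G : Type u} [Group G] [Finite G] {Ω : Type u} [MulAction G Ω] [Finite Ω] [FaithfulSMul G Ω]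

/-- The hypotheses of the case. -/
structure LargeBase (D : Set G) (u : G) (a x : Ω) (T : Sylow 2 (ptC u a)) (E P Q K K1 : Subgroup G) (r : ℕ) :
    Prop where
  crit : Crit D Ω
  below : Below.{u} (Nat.card G)
  gen : closure D = ⊤
  cfg : LargeCfg D u a x T E P
  loc : Local D u a x (tSub T) E Q K K1 r 3

/-- The group fixing the two points. -/
structure TwistCfg (u z : G) (E P Q C : Subgroup G) (r : ℕ) : Prop where
  z_mem : z ∈ P
  z_ord : orderOf z = 2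
  z_ne : z ≠ u
  z_cenE : ∀ e ∈ E, Commute z e
  fix_z : ∀ y ∈ Q, Commute z y → y ∈ E
  inv_z : ∀ y ∈ Q, y⁻¹ * (z * y * z⁻¹) ∈ E → z * y * z⁻¹ = y⁻¹
  fl_card : {y | y ∈ Q ∧ y⁻¹ * (z * y * z⁻¹) ∈ E}.ncard ≤ 2 ^ r * 2 ^ r
  cenE_P : ∀ p ∈ P, (∀ e ∈ E, Commute p e) → p = 1 ∨ p = u ∨ p = z ∨ p = u * z
  C_le : C ≤ P
  C_cyc : IsCyclic C
  u_notMem : u ∉ C
  z_C : z ∈ C
  split : ∀ p ∈ P, p ∈ C ∨ u * p ∈ C

namespace LargeBase

variable {D : Set G} {u : G} {a x : Ω} {T : Sylow 2 (ptC u a)} {E P Q K K1 : Subgroup G} {r : ℕ}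
  (B : LargeBase D u a x T E P Q K K1 r)
include B

theorem tSub_le : tSub T ≤ ptC u a := map_subtype_le _

theorem tSub_two : IsPGroup 2 (tSub T) := T.2.map _

theorem P_two : IsPGroup 2 P := B.tSub_two.to_le B.cfg.P_le

theorem mem_u {t : G} (ht : t ∈ tSub T) : Commute t u := (mem_ptC.1 (B.tSub_le ht)).1

theorem mem_a {t : G} (ht : t ∈ tSub T) : t • a = a := (mem_ptC.1 (B.tSub_le ht)).2

theorem u_T : u ∈ tSub T := B.cfg.P_le B.cfg.u_mem

theorem uu : u * u = 1 := Invol.mul_self B.cfg.hu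

theorem fix_smul {g : G} (hg : Commute g u) {z : Ω} (hz : u • z = z) : u • g • z = g • z := by
  rw [← mul_smul, ← hg.eq, mul_smul, hz]

theorem Q_commute_u {y : G} (hy : y ∈ Q) : Commute y u := commute_of_genC (B.loc.Q_gen hy)

theorem four_le : 4 ≤ 2 ^ r := (Nat.pow_le_pow_right two_pos B.loc.two_le : 2 ^ 2 ≤ 2 ^ r)

theorem card_Q : Nat.card Q = 2 ^ r * 2 ^ r * 2 ^ r := by
  rw [B.loc.card_Q, ← pow_add, ← pow_add]; ring_nf

/-- An element of `Q` fixing a second fixed point is one. -/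
theorem eq_one_of_fix {y : G} (hy : y ∈ Q) (hyx : y • x = x) : y = 1 := by
  obtain ⟨v, -, hv⟩ := B.loc.reg x B.cfg.hx B.cfg.hxa
  exact (hv y ⟨hy, hyx⟩).trans (hv 1 ⟨Q.one_mem, one_smul G x⟩).symm

theorem u_notMem : u ∉ Q := fun hu =>
  Invol.ne_one B.cfg.hu (B.eq_one_of_fix hu B.cfg.hx)

/-- `P` is all of the elements of `T` fixing `x`. -/
theorem mem_P {p : G} : p ∈ P ↔ p ∈ tSub T ∧ p • x = x := by
  refine ⟨fun hp => ⟨B.cfg.P_le hp, B.cfg.P_fix p hp⟩, fun ⟨hp, hpx⟩ => ?_⟩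
  set R := tSub T ⊓ stabilizer G x with hR
  have hle : P ≤ R := fun g hg => ⟨B.cfg.P_le hg, mem_stabilizer_iff.2 (B.cfg.P_fix g hg)⟩
  have hc := B.cfg.P_max R (B.tSub_two.to_le inf_le_left) a x (Ne.symm B.cfg.hxa)
    (fun g hg => B.mem_a hg.1) fun g hg => mem_stabilizer_iff.1 hg.2
  rw [Subgroup.eq_of_le_of_card_ge hle hc]
  exact ⟨hp, mem_stabilizer_iff.2 hpx⟩

theorem eq_one_of_QP {y : G} (hy : y ∈ Q) (hyP : y ∈ P) : y = 1 := B.eq_one_of_fix hy (B.cfg.P_fix y hyP)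

/-- `T = Q P`. -/
theorem split_T {t : G} (ht : t ∈ tSub T) : ∃ y ∈ Q, ∃ p ∈ P, t = y * p := by
  obtain ⟨y, ⟨hy, hyx⟩, -⟩ := B.loc.reg (t • x) (B.fix_smul (B.mem_u ht) B.cfg.hx)
    fun e => B.cfg.hxa (MulAction.injective t (e.trans (B.mem_a ht).symm))
  refine ⟨y, hy, y⁻¹ * t, B.mem_P.2 ⟨mul_mem (inv_mem (B.loc.Q_le hy)) ht, ?_⟩, (mul_inv_cancel_left y t).symm⟩
  rw [mul_smul, ← hyx, inv_smul_smul]

theorem conj_Q {t : G} (ht : t ∈ tSub T) {y : G} (hy : y ∈ Q) : t * y * t⁻¹ ∈ Q :=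
  B.loc.mem_Q.2 ⟨mul_mem (mul_mem ht (B.loc.Q_le hy)) (inv_mem ht),
    B.crit.conj_genC (B.mem_u ht) (B.loc.Q_gen hy)⟩

theorem T_le_normQ : tSub T ≤ normalizer (Q : Set G) := fun _ ht =>
  Subgroup.mem_normalizer_fintype fun _ hy => B.conj_Q ht hy

theorem card_T : Nat.card (tSub T) = 2 ^ r * 2 ^ r * 2 ^ r * Nat.card P := by
  rw [← B.card_Q, ← Nat.card_prod]
  refine (Nat.card_eq_of_bijective
    (fun p : Q × P => (⟨(p.1 : G) * p.2, mul_mem (B.loc.Q_le p.1.2) (B.cfg.P_le p.2.2)⟩ : tSub T)) ⟨?_, ?_⟩).symm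
  · rintro ⟨y, p⟩ ⟨y', p'⟩ e
    have e' : (y : G) * p = y' * p' := congrArg Subtype.val e
    have h1 : (y' : G)⁻¹ * y = p' * (p : G)⁻¹ := by
      rw [eq_mul_inv_iff_mul_eq, mul_assoc, e', inv_mul_cancel_left]
    have h2 := B.eq_one_of_QP (mul_mem (inv_mem y'.2) y.2) (h1 ▸ mul_mem p'.2 (inv_mem p.2))
    have hy : y = y' := Subtype.ext (inv_mul_eq_one.1 h2).symm
    subst hy
    exact Prod.ext rfl (Subtype.ext (mul_left_cancel e'))
  · rintro ⟨t, ht⟩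
    obtain ⟨y, hy, p, hp, rfl⟩ := B.split_T ht
    exact ⟨(⟨y, hy⟩, ⟨p, hp⟩), rfl⟩

/-- The centre of `Q` is `E`. -/
theorem mem_center {y : Q} : y ∈ Subgroup.center Q ↔ (y : G) ∈ E := by
  rw [Subgroup.mem_center_iff]
  refine ⟨fun hy => B.crit.local_center B.below B.gen B.cfg.hu B.cfg.hbad B.cfg.ha B.cfg.hx B.cfg.hxa T B.cfg.hE
    B.loc y y.2 fun z hz => (congrArg Subtype.val (hy ⟨z, hz⟩)).symm, fun hy z => ?_⟩
  exact Subtype.ext (B.loc.cen y hy z z.2).eq.symm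

theorem center_eq : Subgroup.center Q = E.subgroupOf Q := Subgroup.ext fun _ => B.mem_center

theorem card_center : Nat.card (Subgroup.center Q) = 2 ^ r := by
  rw [B.center_eq, Nat.card_congr (Subgroup.subgroupOfEquivOfLe B.loc.eset_le).toEquiv, B.loc.card_eset]

/-- An element normalising `Q` is trivial modulo the centre exactly if it fixes each class. -/
theorem mem_fixCen_conj {g : normalizer (Q : Set G)} :
    Q.normalizerMonoidHom g ∈ fixCen Q ↔ ∀ y ∈ Q, y⁻¹ * ((g : G) * y * (g : G)⁻¹) ∈ E :=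
  ⟨fun h y hy => B.mem_center.1 (h ⟨y, hy⟩), fun h y => B.mem_center.2 (h y y.2)⟩

end LargeBase

end Cfsg.Agent.GoodInvol
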