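import Cfsg.Agent.Lib.GoodInvol.CaseBLarge.Defs
import Cfsg.Agent.Lib.GoodInvol.CaseBSz
import Cfsg.Agent.Lib.GoodInvol.CaseBL2.SylowOrbit
import Cfsg.Agent.Lib.GoodInvol.Companion.Main

/-!
# A large 2-group on two points: the Sylow subgroup

By the companion count the degree is `q ^ 4 * odd + 1` and the members in a 2-group over `T` are in `E`. So a Sylow
subgroup of the normaliser of `u E` at `a` over `T` is transitive on `u E` and is a Sylow subgroup of the group.
-/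

set_option autoImplicit false
set_option linter.style.haveILetI false
set_option linter.unusedSectionVars false

namespace Cfsg.Agent.GoodInvol

open Subgroup MulAction

universe u

variable {G : Type u} [Group G] [Finite G] {Ω : Type u} [MulAction G Ω] [Finite Ω] [FaithfulSMul G Ω] {D : Set G}

namespace LargeBase

variable {u : G} {a x : Ω} {T : Sylow 2 (ptC u a)} {E P Q K K1 : Subgroup G} {r : ℕ}
  (B : LargeBase D u a x T E P Q K K1 r)
include B

theorem T_max {R : Subgroup G} (hRa : ∀ g ∈ R, g • a = a) (hR2 : IsPGroup 2 R) (hRu : ∀ y ∈ R, Commute y u) :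
    Nat.card R ≤ Nat.card (tSub T) := by
  haveI : Fact (Nat.Prime 2) := ⟨Nat.prime_two⟩
  have hle : R ≤ ptC u a := fun y hy => mem_ptC.2 ⟨hRu y hy, hRa y hy⟩
  obtain ⟨S, hS⟩ := (hR2.comap_subtype : IsPGroup 2 (R.subgroupOf (ptC u a))).exists_le_sylow
  calc Nat.card R = Nat.card (R.subgroupOf (ptC u a)) :=
        (Nat.card_congr (Subgroup.subgroupOfEquivOfLe hle).toEquiv).symm
    _ ≤ Nat.card (S : Subgroup (ptC u a)) := Subgroup.card_le_of_le hS
    _ = Nat.card (tSub T) := by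
      rw [card_map_of_injective (ptC u a).subtype_injective, S.card_eq_multiplicity, T.card_eq_multiplicity]

/-- An element at `a` of a 2-group containing `T` is in `T` if it commutes with `u`. -/
theorem mem_T_of_two {R : Subgroup G} (hR : IsPGroup 2 R) (hTR : tSub T ≤ R) {g : G} (hg : g ∈ R) (hga : g • a = a)
    (hgu : Commute g u) : g ∈ tSub T := by
  set R' := R ⊓ ptC u a with hR'
  have hTR' : tSub T ≤ R' := le_inf hTR B.tSub_le
  have h1 := B.T_max (R := R') (fun y hy => (mem_ptC.1 hy.2).2) (hR.to_le inf_le_left)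
    fun y hy => (mem_ptC.1 hy.2).1
  rw [Subgroup.eq_of_le_of_card_ge hTR' h1]
  exact ⟨hg, mem_ptC.2 ⟨hgu, hga⟩⟩

section

variable {z : G} {C : Subgroup G} (W : TwistCfg u z E P Q C r)
include W

/-- As many members act at a moved point as `u` as have one action on the fixed points. -/
theorem card_csig {y : Ω} (hy : u • y ≠ y) {d : G} (hd : d ∈ cmem D u) :
    (csig D u y).ncard = (kap D Ω u d).ncard := by
  classical
  have hzT : z ∈ tSub T := B.cfg.P_le W.z_mem
  obtain ⟨p, hp, hzp⟩ : ∃ p : Ω, u • p = p ∧ z • p ≠ p := by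
    by_contra! hall
    rcases B.cfg.hW z ⟨hzT, hall⟩ with e | e
    · exact Invol.ne_one W.z_ord e
    · exact W.z_ne e
  exact ((B.crit.companion_count B.below B.gen B.cfg.hu W.z_ord (B.mem_u hzT).symm (Ne.symm B.cfg.hxa) B.cfg.ha
    B.cfg.hx (B.mem_a hzT) (B.cfg.P_fix z W.z_mem) hp hzp B.tSub_le B.cfg.hE).2.2 y hy d hd).1

theorem exists_moved : ∃ y : Ω, u • y ≠ y := by
  by_contra hc
  push Not at hc
  exact Invol.ne_one B.cfg.hu (FaithfulSMul.eq_of_smul_eq_smul (α := Ω) fun y => (hc y).trans (one_smul G y).symm)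

/-- The degree. -/
theorem exists_degree : ∃ w : ℕ, Odd w ∧ Nat.card Ω = (2 ^ r) ^ 4 * w + 1 := by
  classical
  obtain ⟨y, hy⟩ := B.exists_moved W
  obtain ⟨e0, he0, -, -, he01, -, -⟩ := B.cfg.hE.two
  have hd : e0 ∈ cmem D u := ⟨(((B.cfg.hE.mem e0).1 he0).resolve_left he01).1, B.mem_u (B.cfg.hE.le he0)⟩
  have hmoved := B.crit.card_moved_eq B.below B.gen B.cfg.hu B.cfg.hbad B.cfg.ha hy
  rw [B.crit.card_cdat_kap B.below B.gen B.cfg.hu B.cfg.hbad B.cfg.ha B.cfg.hE B.tSub_le hd,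
    B.card_csig W hy hd, B.loc.card_eset, B.loc.card_fix, Nat.add_sub_cancel] at hmoved
  have hκ : 0 < (kap D Ω u e0).ncard := (Set.ncard_pos (Set.toFinite _)).2 ⟨e0, hd, fun z _ => rfl⟩
  set q := 2 ^ r with hq
  have hq3 : 2 ^ (3 * r) = q ^ 3 := by rw [hq, ← pow_mul, mul_comm]
  rw [hq3] at hmoved
  have hM : (fixSet Ω u)ᶜ.ncard = (q ^ 3 + 1) * (q - 1) * q ^ 3 :=
    Nat.eq_of_mul_eq_mul_right hκ (by rw [hmoved]; ring)
  obtain ⟨p, hp⟩ : ∃ p, q = p + 1 := ⟨q - 1, by have := Nat.two_pow_pos r; omega⟩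
  refine ⟨q ^ 2 * p + 1, ?_, ?_⟩
  · refine (Even.mul_right ?_ p).add_one
    rw [hq, ← pow_mul]
    exact Nat.even_pow.2 ⟨even_two, by have := B.loc.two_le; omega⟩
  rw [← Set.ncard_add_ncard_compl (fixSet Ω u), hM, B.loc.card_fix, hq3, hp, Nat.add_sub_cancel]
  ring

/-- The members at `a` in a 2-group containing `T` are in `E`. -/
theorem mem_eset_of_two {R : Subgroup G} (hR : IsPGroup 2 R) (hTR : tSub T ≤ R) {d : G} (hdR : d ∈ R) (hdD : d ∈ D)
    (hda : d • a = a) : d ∈ E := by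
  classical
  haveI : Fact (Nat.Prime 2) := ⟨Nat.prime_two⟩
  obtain ⟨y, hy⟩ := B.exists_moved W
  obtain ⟨e0, he0, -, -, he01, -, -⟩ := B.cfg.hE.two
  have h := B.crit
  have hd : e0 ∈ cmem D u := ⟨(((B.cfg.hE.mem e0).1 he0).resolve_left he01).1, B.mem_u (B.cfg.hE.le he0)⟩
  have hsub : ∀ c ∈ cdat D u a, kap D Ω (u * c) c ⊆ dat D a := fun c hc f hf => ⟨hf.1.1, by
    rw [hf.2 a (by rw [mul_smul, hc.1.2, B.cfg.ha]), hc.1.2]⟩
  have hord : ∀ c ∈ cdat D u a, ∀ f ∈ kap D Ω (u * c) c,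
      Odd (orderOf (f * c)) ∧ orderOf (f * u) = orderOf (f * c) * 2 ∧ (f * u) ^ orderOf (f * c) = u * c := by
    intro c hc f hf
    have hcm : c ∈ cmem D u := ⟨hc.1.1, hc.2⟩
    have hv : orderOf (u * c) = 2 := h.mul_invol_of_cmem B.cfg.hu B.cfg.hbad hcm
    have hodd := h.odd_mul_kap (h.not_oneFix_mul B.cfg.hu B.cfg.hbad hc.1.1 hc.2) hc.1.1 hf.1.1 hf.2
    have hcomm : Commute (f * c) (u * c) := hf.1.2.mul_left (hc.2.mul_right (Commute.refl c))
    have efw : f * u = f * c * (u * c) := by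
      calc f * u = f * (c * c) * u := by rw [Invol.mul_self (h.invol c hc.1.1), mul_one]
        _ = f * c * (c * u) := by group
        _ = _ := by rw [hc.2.eq]
    refine ⟨hodd, ?_, ?_⟩
    · rw [efw, hcomm.orderOf_mul_eq_mul_orderOf_of_coprime (by rw [hv]; exact Nat.coprime_two_right.2 hodd), hv]
    · obtain ⟨i, hi⟩ := hodd
      rw [efw, hcomm.mul_pow, pow_orderOf_eq_one, one_mul, hi, pow_succ, pow_mul, pow_two, Invol.mul_self hv,
        one_pow, one_mul]
  have hdisj : (↑(cdat D u a).toFinite.toFinset : Set G).PairwiseDisjoint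
      fun c => (kap D Ω (u * c) c).toFinite.toFinset := by
    intro c hc c' hc' hne
    rw [Set.Finite.coe_toFinset] at hc hc'
    refine Finset.disjoint_left.2 fun f hf hf' => hne ?_
    rw [Set.Finite.mem_toFinset] at hf hf'
    obtain ⟨-, ho, hp⟩ := hord c hc f hf
    obtain ⟨-, ho', hp'⟩ := hord c' hc' f hf'
    have he : orderOf (f * c) = orderOf (f * c') := Nat.eq_of_mul_eq_mul_right two_pos (ho.symm.trans ho')
    exact mul_left_cancel (hp.symm.trans (he ▸ hp'))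
  have hall : (cdat D u a).toFinite.toFinset.biUnion (fun c => (kap D Ω (u * c) c).toFinite.toFinset) =
      (dat D a).toFinite.toFinset := by
    refine Finset.eq_of_subset_of_card_le (fun f hf => ?_) ?_
    · obtain ⟨c, hc, hfc⟩ := Finset.mem_biUnion.1 hf
      rw [Set.Finite.mem_toFinset] at hc hfc ⊢
      exact hsub c hc hfc
    · rw [Finset.card_biUnion hdisj, Finset.sum_congr rfl (g := fun _ => (kap D Ω u e0).ncard) fun c hc => by
          rw [Set.Finite.mem_toFinset] at hc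
          rw [← Set.ncard_eq_toFinset_card, h.card_kap_eq B.below B.gen B.cfg.hu B.cfg.hbad hd ⟨hc.1.1, hc.2⟩],
        Finset.sum_const, smul_eq_mul, ← Set.ncard_eq_toFinset_card, ← Set.ncard_eq_toFinset_card,
        h.card_dat a y, h.card_dat_eq B.below B.gen B.cfg.hu B.cfg.hbad B.cfg.ha hy, B.card_csig W hy hd, mul_comm]
  have hdmem : d ∈ (dat D a).toFinite.toFinset := by
    rw [Set.Finite.mem_toFinset]
    exact ⟨hdD, hda⟩
  rw [← hall, Finset.mem_biUnion] at hdmem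
  obtain ⟨c, hc, hdc⟩ := hdmem
  rw [Set.Finite.mem_toFinset] at hc hdc
  obtain ⟨hodd, ho, -⟩ := hord c hc d hdc
  obtain ⟨i, hi⟩ := IsPGroup.iff_orderOf.1 hR ⟨d * u, mul_mem hdR (hTR B.u_T)⟩
  rw [Subgroup.orderOf_mk, ho] at hi
  have h1 : orderOf (d * c) = 1 := Nat.eq_one_of_dvd_coprimes
    (Nat.Coprime.pow_left i (Nat.coprime_two_left.2 hodd)) (Dvd.intro 2 hi) dvd_rfl
  have hdc' : d = c := by
    rw [eq_inv_of_mul_eq_one_left (orderOf_eq_one_iff.1 h1), Invol.inv_self (h.invol c hc.1.1)]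
  exact (B.cfg.hE.mem d).2 (Or.inr ⟨hdD, B.mem_T_of_two hR hTR hdR hda (by rw [hdc']; exact hc.2)⟩)

/-- The bound on the 2-groups at `a`. -/
theorem card_le {R : Subgroup G} (hR : IsPGroup 2 R) (hRa : ∀ g ∈ R, g • a = a) :
    Nat.card R ≤ (2 ^ r) ^ 4 * Nat.card P := by
  classical
  haveI : Fact (Nat.Prime 2) := ⟨Nat.prime_two⟩
  obtain ⟨w, hw, hn⟩ := B.exists_degree W
  obtain ⟨n, hRn⟩ := IsPGroup.iff_card.1 hR
  obtain ⟨z, hza, hz⟩ : ∃ z : Ω, z ≠ a ∧ (orbit R z).ncard ≤ (2 ^ r) ^ 4 := by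
    by_contra! hcon
    have hinv : ∀ z ∈ ({a}ᶜ : Set Ω), orbit R z ⊆ ({a}ᶜ : Set Ω) := by
      rintro z hz _ ⟨g, rfl⟩ (hga : (g : G) • z = a)
      exact hz (MulAction.injective (g : G) (hga.trans (hRa g g.2).symm))
    have hdvd : 2 ^ (4 * r + 1) ∣ ({a}ᶜ : Set Ω).ncard := by
      let A : SubMulAction R Ω :=
        { carrier := ({a}ᶜ : Set Ω)
          smul_mem' := fun g z hz => hinv z hz ⟨g, rfl⟩ }
      rw [← Nat.card_coe_set_eq]
      change 2 ^ (4 * r + 1) ∣ Nat.card A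
      letI : Fintype (Quotient (orbitRel R A)) := Fintype.ofFinite _
      rw [Nat.card_congr (selfEquivSigmaOrbits R A), Nat.card_sigma]
      refine Finset.dvd_sum fun ω _ => ?_
      have h1 : Nat.card (orbit R ω.out) = (orbit R ((ω.out : A) : Ω)).ncard := by
        rw [Nat.card_coe_set_eq, ← SubMulAction.val_image_orbit ω.out, Set.ncard_image_of_injective _ Subtype.val_injective]
      rw [h1]
      have h2 := Nat.card_congr (orbitProdStabilizerEquivGroup R ((ω.out : A) : Ω))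
      rw [Nat.card_prod, Nat.card_coe_set_eq, hRn] at h2
      obtain ⟨i, -, hi⟩ := (Nat.dvd_prime_pow Nat.prime_two).1 (Dvd.intro _ h2)
      rw [hi]
      refine pow_dvd_pow 2 ?_
      have h3 := hcon _ (ω.out : A).2
      rw [hi, ← pow_mul] at h3
      have := (Nat.pow_lt_pow_iff_right one_lt_two).1 h3
      omega
    rw [Set.ncard_compl, Set.ncard_singleton, hn, Nat.add_sub_cancel, ← pow_mul, pow_succ,
      mul_comm r 4] at hdvd
    exact hw.not_two_dvd_nat (Nat.dvd_of_mul_dvd_mul_left (Nat.two_pow_pos _) hdvd)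
  have h2 := Nat.card_congr (orbitProdStabilizerEquivGroup R z)
  rw [Nat.card_prod, Nat.card_coe_set_eq] at h2
  rw [← h2]
  refine Nat.mul_le_mul hz ?_
  rw [← card_map_of_injective R.subtype_injective]
  refine B.cfg.P_max _ ((hR.to_subgroup _).map _) a z hza.symm ?_ ?_
  · rintro _ ⟨g, -, rfl⟩; exact hRa g g.2
  · rintro _ ⟨g, hg, rfl⟩; exact mem_stabilizer_iff.1 hg

/-- The Sylow subgroup over `T`. -/
theorem exists_sylow : ∃ S : Sylow 2 G, tSub T ≤ S ∧ (S : Subgroup G) ≤ cosetNorm E u ⊓ stabilizer G a ∧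
    (∀ f ∈ E, ∃ s ∈ (S : Subgroup G), s * u * s⁻¹ = u * f) ∧
    Nat.card (S : Subgroup G) = 2 ^ r * Nat.card (tSub T) := by
  classical
  haveI : Fact (Nat.Prime 2) := ⟨Nat.prime_two⟩
  set N := cosetNorm E u ⊓ stabilizer G a with hN
  have hTN : tSub T ≤ N := fun t ht => by
    refine ⟨mem_cosetNorm_of_conj (fun y => ⟨fun hy => ?_, B.cfg.hE.norm t ht y⟩) ?_,
      mem_stabilizer_iff.2 (B.mem_a ht)⟩
    · have := B.cfg.hE.norm t⁻¹ (inv_mem ht) _ hy
      rwa [inv_inv, show t⁻¹ * (t * y * t⁻¹) * t = y by group] at this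
    · rw [(B.mem_u ht).eq, mul_inv_cancel_right, inv_mul_cancel]; exact one_mem E
  obtain ⟨S0, hS0⟩ := (B.tSub_two.comap_subtype : IsPGroup 2 ((tSub T).subgroupOf N)).exists_le_sylow
  set R := (S0 : Subgroup N).map N.subtype with hR
  have hRN : R ≤ N := map_subtype_le _
  have hTR : tSub T ≤ R := fun t ht => ⟨⟨t, hTN ht⟩, hS0 ht, rfl⟩
  have hR2 : IsPGroup 2 R := S0.2.map _
  have hRa : ∀ g ∈ R, g • a = a := fun g hg => mem_stabilizer_iff.1 (hRN hg).2
  have hA : SixInv.orb (N ⊓ ⊤) u = (fun f => u * f) '' (E : Set G) := by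
    rw [inf_top_eq]
    ext v
    constructor
    · rintro ⟨g, hg, rfl⟩
      exact ⟨u⁻¹ * (g * u * g⁻¹), (hg.1.2 u).2 (by rw [inv_mul_cancel]; exact one_mem E),
        mul_inv_cancel_left _ _⟩
    · rintro ⟨f, hf, rfl⟩
      obtain ⟨g, hg, hgu⟩ :=
        B.crit.exists_conj_coset B.below B.gen B.cfg.hu B.cfg.hbad B.cfg.ha B.tSub_le B.cfg.hE hf
      exact ⟨g, hg, hgu⟩
  have htrans : ∀ f ∈ E, ∃ s ∈ R, s * u * s⁻¹ = u * f := fun f hf => by
    obtain ⟨s, hs, hsu⟩ := exists_conj_of_sylow S0 (C := ⊤) (fun _ _ _ _ => mem_top _) hA (r := r)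
      (by rw [Set.ncard_image_of_injective _ (mul_right_injective u), ← Nat.card_coe_set_eq]
          exact B.loc.card_eset) (z := u * f) ⟨f, hf, rfl⟩
    exact ⟨s, hs.1, hsu⟩
  have hcard : Nat.card R = 2 ^ r * Nat.card (tSub T) := by
    have horb : SixInv.orb R u = (fun f => u * f) '' (E : Set G) := by
      refine Set.Subset.antisymm ?_ ?_
      · rintro _ ⟨g, hg, rfl⟩
        rw [← hA, inf_top_eq]
        exact ⟨g, hRN hg, rfl⟩
      · rintro _ ⟨f, hf, rfl⟩
        exact htrans f hf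
    have hinf : R ⊓ centralizer ({u} : Set G) = tSub T := by
      ext g
      rw [mem_inf, mem_centralizer_singleton_iff]
      exact ⟨fun hg => B.mem_T_of_two hR2 hTR hg.1 (hRa g hg.1) hg.2, fun hg => ⟨hTR hg, (B.mem_u hg).eq⟩⟩
    rw [← SixInv.orb_card R u, horb, hinf, Set.ncard_image_of_injective _ (mul_right_injective u),
      ← Nat.card_coe_set_eq]
    exact congrArg (· * _) B.loc.card_eset
  obtain ⟨S, hS⟩ := hR2.exists_le_sylow
  haveI : Nonempty Ω := ⟨a⟩
  obtain ⟨b, hb⟩ := B.crit.exists_fix_of_pGroup S.2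
  obtain ⟨g, -, hg⟩ := B.crit.exists_smul b a
  have hle := B.card_le W (R := (S : Subgroup G).map (MulAut.conj g).toMonoidHom) (S.2.map _) (by
    rintro _ ⟨s, hs, rfl⟩
    show (g * s * g⁻¹) • a = a
    rw [mul_smul, mul_smul, ← hg, inv_smul_smul, hb s hs])
  rw [card_map_of_injective (MulAut.conj g).injective] at hle
  have hRS : R = (S : Subgroup G) := Subgroup.eq_of_le_of_card_ge hS (by
    rw [hcard, B.card_T]
    exact hle.trans (le_of_eq (by ring)))
  exact ⟨S, hRS ▸ hTR, hRS ▸ hRN, hRS ▸ htrans, hRS ▸ hcard⟩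

end

end LargeBase

end Cfsg.Agent.GoodInvol
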