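import Cfsg.Agent.Lib.GoodInvol.CaseBLarge.Pieces
import Cfsg.Agent.Lib.GoodInvol.CaseBLarge.Sylow
import Cfsg.Agent.Lib.GoodInvol.IndexTwo
import Cfsg.Agent.Lib.TwoXDih.Transfer

/-!
# A large 2-group on two points: the transfer

`W₁ Q C` has index two in the Sylow subgroup `S` and misses `u`, so it contains a conjugate `v` of `u` with a
centraliser in `S` as large as `T`. That centraliser is carried to `T` by an element normalising `E`. Either `v` has
an abelian group of order `q ^ 3` in its centraliser with squares in `E`, while `T` has at most `4 q` commuting with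
an involution outside `⟨u⟩ E`; or `v` meets `Q` in a centraliser `E`, too small.
-/

set_option autoImplicit false
set_option linter.style.haveILetI false
set_option linter.unusedSectionVars false

namespace Cfsg.Agent.GoodInvol

open Subgroup MulAction

universe u

/-- The product of two subgroups of `S` has at most the size of `S`. -/
theorem card_mul_card_le_inf {G : Type u} [Group G] [Finite G] {R X S : Subgroup G} (hR : R ≤ S) (hX : X ≤ S) :
    Nat.card R * Nat.card X ≤ Nat.card S * Nat.card (X ⊓ R : Subgroup G) := by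
  have e1 : Nat.card (X ⊓ R : Subgroup G) * X.relIndex R = Nat.card R := by
    rw [← inf_relIndex_right, Subgroup.relIndex,
      ← Nat.card_congr (Subgroup.subgroupOfEquivOfLe (inf_le_right : X ⊓ R ≤ R)).toEquiv]
    exact ((X ⊓ R).subgroupOf R).card_mul_index
  have e2 : Nat.card X * X.relIndex S = Nat.card S := by
    rw [Subgroup.relIndex, ← Nat.card_congr (Subgroup.subgroupOfEquivOfLe hX).toEquiv]
    exact (X.subgroupOf S).card_mul_index
  have hne : X.relIndex S ≠ 0 := fun e0 => by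
    rw [e0, mul_zero] at e2
    exact absurd e2 Nat.card_pos.ne
  have hle : X.relIndex R ≤ X.relIndex S := Subgroup.relIndex_le_of_le_right hR hne
  calc Nat.card R * Nat.card X = X.relIndex R * Nat.card X * Nat.card (X ⊓ R : Subgroup G) := by
        rw [← e1]; ring
    _ ≤ X.relIndex S * Nat.card X * Nat.card (X ⊓ R : Subgroup G) :=
        Nat.mul_le_mul_right _ (Nat.mul_le_mul_right _ hle)
    _ = _ := by rw [← e2]; ring

variable {G : Type u} [Group G] [Finite G] {Ω : Type u} [MulAction G Ω] [Finite Ω] [FaithfulSMul G Ω] {D : Set G}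

namespace LargeBase

variable {u : G} {a x : Ω} {T : Sylow 2 (ptC u a)} {E P Q K K1 : Subgroup G} {r : ℕ}
  (B : LargeBase D u a x T E P Q K K1 r)
include B

/-- The centraliser in `Q` of one of its elements has order at least `q ^ 2`. -/
theorem card_centralizer_Q {y : G} (hy : y ∈ Q) :
    2 ^ r * 2 ^ r ≤ Nat.card (Q ⊓ centralizer ({y} : Set G) : Subgroup G) := by
  let φ : Q →* E := MonoidHom.mk' (fun k => ⟨y * k * y⁻¹ * (k : G)⁻¹, B.loc.comm y hy k k.2⟩) fun k k' => by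
    refine Subtype.ext ?_
    show y * ((k : G) * k') * y⁻¹ * ((k : G) * k')⁻¹ = y * k * y⁻¹ * (k : G)⁻¹ * (y * k' * y⁻¹ * (k' : G)⁻¹)
    have hc := (B.loc.cen _ (B.loc.comm y hy k' k'.2) k k.2).eq
    rw [show y * ((k : G) * k') * y⁻¹ * ((k : G) * k')⁻¹ =
        y * k * y⁻¹ * (y * k' * y⁻¹ * (k' : G)⁻¹ * (k : G)⁻¹) by group,
      show y * (k : G) * y⁻¹ * (k : G)⁻¹ * (y * k' * y⁻¹ * (k' : G)⁻¹) =
        y * k * y⁻¹ * ((k : G)⁻¹ * (y * k' * y⁻¹ * (k' : G)⁻¹)) by group]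
    congr 1
    exact ((B.loc.cen _ (B.loc.comm y hy k' k'.2) k k.2).inv_right).eq
  have hker : φ.ker.map Q.subtype = Q ⊓ centralizer ({y} : Set G) := by
    ext g
    constructor
    · rintro ⟨k, hk, rfl⟩
      refine ⟨k.2, mem_centralizer_singleton_iff.2 ?_⟩
      have h1 : y * k * y⁻¹ * (k : G)⁻¹ = 1 := congrArg Subtype.val (MonoidHom.mem_ker.1 hk)
      rw [mul_inv_eq_one, mul_inv_eq_iff_eq_mul] at h1
      exact h1.symm
    · rintro ⟨hg, hgy⟩
      refine ⟨⟨g, hg⟩, MonoidHom.mem_ker.2 (Subtype.ext ?_), rfl⟩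
      show y * g * y⁻¹ * g⁻¹ = 1
      rw [← mem_centralizer_singleton_iff.1 hgy, mul_inv_cancel_right, mul_inv_cancel]
  have e1 := φ.ker.card_mul_index
  rw [index_ker, B.card_Q] at e1
  rw [← hker, card_map_of_injective Q.subtype_injective]
  have h2 : Nat.card φ.range ≤ 2 ^ r := B.loc.card_eset ▸ Subgroup.card_le_card_group φ.range
  refine Nat.le_of_mul_le_mul_right ?_ (Nat.two_pow_pos r)
  rw [← e1]
  exact Nat.mul_le_mul_left _ h2

theorem exists_notMem_E : ∃ y ∈ Q, y ∉ E := by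
  by_contra! hc
  have h1 := Subgroup.card_le_of_le (show Q ≤ E from hc)
  rw [B.card_Q, B.loc.card_eset] at h1
  have h2 := B.four_le
  have h3 := Nat.mul_le_mul_right (2 ^ r) (Nat.mul_le_mul h2 h2)
  omega

section

variable {z : G} {C : Subgroup G} (W : TwistCfg u z E P Q C r)
include W

theorem conj_z {y : G} (hy : y ∈ Q) : z * y * z⁻¹ ∈ Q := B.conj_Q (B.cfg.P_le W.z_mem) hy

/-- Two elements of `Q` inverted by `z` modulo `E` commute. -/
theorem fl_comm {y y' : G} (hy : y ∈ Q) (hy' : y' ∈ Q) (h1 : y⁻¹ * (z * y * z⁻¹) ∈ E)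
    (h2 : y'⁻¹ * (z * y' * z⁻¹) ∈ E) : Commute y y' := by
  have e1 := W.inv_z y hy h1
  have e2 := W.inv_z y' hy' h2
  have hp : z * (y * y') * z⁻¹ = y⁻¹ * y'⁻¹ := by
    rw [show z * (y * y') * z⁻¹ = z * y * z⁻¹ * (z * y' * z⁻¹) by group, e1, e2]
  have h3 : (y * y')⁻¹ * (z * (y * y') * z⁻¹) ∈ E := by
    rw [hp, show (y * y')⁻¹ * (y⁻¹ * y'⁻¹) = y'⁻¹ * (y * y)⁻¹ * y'⁻¹ by group,
      mul_assoc, (B.loc.cen _ (inv_mem (B.loc.sq y hy)) _ (inv_mem hy')).eq, ← mul_assoc, ← mul_inv_rev]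
    exact mul_mem (inv_mem (B.loc.sq y' hy')) (inv_mem (B.loc.sq y hy))
  have h4 := (W.inv_z _ (mul_mem hy hy') h3).symm.trans hp
  rw [← mul_inv_rev y' y] at h4
  exact inv_injective h4

/-- An element of `Q` commuting with `y z`, `y` inverted by `z`, is in `E`. -/
theorem mem_E_of_comm {y k : G} (hy : y ∈ Q) (hk : k ∈ Q) (hyz : z * y * z⁻¹ = y⁻¹)
    (hc : Commute k (y * z)) : k ∈ E := by
  have hfy : y⁻¹ * (z * y * z⁻¹) ∈ E := by
    rw [hyz, ← mul_inv_rev]
    exact inv_mem (B.loc.sq y hy)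
  have e1 : z * k * z⁻¹ = y⁻¹ * k * y := by
    calc z * k * z⁻¹ = y⁻¹ * (y * z * k) * z⁻¹ := by group
      _ = y⁻¹ * (k * (y * z)) * z⁻¹ := by rw [hc.eq]
      _ = y⁻¹ * k * y := by group
  have hfk : k⁻¹ * (z * k * z⁻¹) ∈ E := by
    rw [e1, show k⁻¹ * (y⁻¹ * k * y) = k⁻¹ * y⁻¹ * k⁻¹⁻¹ * y⁻¹⁻¹ by group]
    exact B.loc.comm _ (inv_mem hk) _ (inv_mem hy)
  have h3 := W.inv_z k hk hfk
  rw [e1, mul_assoc, (B.fl_comm W hk hy hfk hfy).eq, inv_mul_cancel_left] at h3
  exact B.loc.mem_eset k hk (by nth_rw 2 [h3]; rw [mul_inv_cancel])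

/-- An element of `T` centralising `E` and commuting with an involution outside `⟨u⟩ E`. -/
theorem exists_cenE_form {t : G} (ht : t ∈ tSub T) (htE : ∀ e ∈ E, Commute t e) :
    t ∈ half Q u ∨ ∃ y ∈ Q, t = y * z ∨ t = u * (y * z) := by
  obtain ⟨y, hy, p, hp, rfl⟩ := B.split_T ht
  have hpE : ∀ e ∈ E, Commute p e := fun e he => by
    have := ((B.loc.cen e he y hy).symm.inv_left).mul_left (htE e he)
    rwa [inv_mul_cancel_left] at this
  rcases W.cenE_P p hp hpE with rfl | rfl | rfl | rfl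
  · exact Or.inl (Or.inl (by rwa [mul_one]))
  · exact Or.inl (Or.inr (by rwa [(B.Q_commute_u hy).eq, ← mul_assoc, B.uu, one_mul]))
  · exact Or.inr ⟨y, hy, Or.inl rfl⟩
  · exact Or.inr ⟨y, hy, Or.inr (by rw [← mul_assoc, (B.Q_commute_u hy).eq, mul_assoc])⟩

/-- A commutative subgroup of `T` centralising `E` with an involution outside `⟨u⟩ E` has order at most `4 q`. -/
theorem card_le_four {A : Subgroup G} (hA : A ≤ tSub T) (hcomm : ∀ s ∈ A, ∀ s' ∈ A, Commute s s')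
    (hAE : ∀ s ∈ A, ∀ e ∈ E, Commute s e) {t : G} (ht : t ∈ A) (ht2 : t * t = 1) (htu : t ∉ half E u) :
    Nat.card A ≤ 4 * 2 ^ r := by
  classical
  have hqu : ∀ {s : G}, s ∈ tSub T → ∀ {k : G}, k = u * s → s = u * k := fun {s} _ {k} e => by
    rw [e, ← mul_assoc, B.uu, one_mul]
  obtain ⟨y, hy, htyz⟩ : ∃ y ∈ Q, t = y * z ∨ t = u * (y * z) := by
    refine (B.exists_cenE_form W (hA ht) (hAE t ht)).resolve_left fun h => htu ?_
    rcases h with h | h
    · exact Or.inl (B.loc.mem_eset t h ht2)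
    · refine Or.inr (B.loc.mem_eset _ h ?_)
      rw [show u * t * (u * t) = u * (t * u) * t by group, (B.mem_u (hA ht)).eq, ← mul_assoc, B.uu, one_mul, ht2]
  have hzT := B.cfg.P_le W.z_mem
  have hyzT : y * z ∈ tSub T := mul_mem (B.loc.Q_le hy) hzT
  have hyz2 : y * z * (y * z) = 1 := by
    rcases htyz with e | e
    · rw [← e, ht2]
    · rw [e] at ht2
      rwa [show u * (y * z) * (u * (y * z)) = u * (y * z * u) * (y * z) by group, (B.mem_u hyzT).eq,
        ← mul_assoc u u, B.uu, one_mul] at ht2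
  have hinv : z * y * z⁻¹ = y⁻¹ := by
    rw [Invol.inv_self W.z_ord, eq_inv_iff_mul_eq_one]
    calc z * y * z * y = y⁻¹ * (y * z * (y * z)) * y := by group
      _ = 1 := by rw [hyz2, mul_one, inv_mul_cancel]
  have hhalf : ∀ s ∈ A, s ∈ half Q u → s ∈ half E u := by
    intro s hs hsQ
    have hsT := hA hs
    have hcs : Commute s (y * z) := by
      rcases htyz with e | e
      · exact e ▸ hcomm s hs t ht
      · have := (B.mem_u hsT).mul_right (hcomm s hs t ht)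
        rwa [e, ← mul_assoc, B.uu, one_mul] at this
    rcases hsQ with h | h
    · exact Or.inl (B.mem_E_of_comm W hy h hinv hcs)
    · exact Or.inr (B.mem_E_of_comm W hy h hinv ((B.mem_u hyzT).symm.mul_left hcs))
  let F : Bool × Bool × E → G := fun q => (if q.1 then u else 1) * q.2.2 * (if q.2.1 then t else 1)
  have hF : ∀ s ∈ A, s ∈ half E u → ∀ b : Bool, s * (if b then t else 1) ∈ Set.range F := by
    intro s _ hs b
    rcases hs with h | h
    · exact ⟨(false, b, ⟨s, h⟩), by simp [F]⟩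
    · exact ⟨(true, b, ⟨u * s, h⟩), by simp [F, ← mul_assoc, B.uu]⟩
  have hsub : (A : Set G) ⊆ Set.range F := by
    intro s hs
    rcases B.exists_cenE_form W (hA hs) (hAE s hs) with h | ⟨y', hy', hs'⟩
    · simpa using hF s hs (hhalf s hs h) false
    · have hst : s * t ∈ half Q u := by
        have hm : y' * z * (y * z) ∈ Q := by
          rw [show y' * z * (y * z) = y' * (z * y * z⁻¹) * (z * z) by group, Invol.mul_self W.z_ord, mul_one]
          exact mul_mem hy' (B.conj_z W hy)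
        have hu' : y' * z * u = u * (y' * z) := (B.mem_u (mul_mem (B.loc.Q_le hy') hzT)).eq
        rcases hs' with e | e <;> rcases htyz with e' | e' <;> rw [e, e']
        · exact Or.inl hm
        · refine Or.inr ?_
          rwa [← mul_assoc (y' * z), hu', mul_assoc u, ← mul_assoc u u, B.uu, one_mul]
        · refine Or.inr ?_
          rwa [mul_assoc u, ← mul_assoc u u, B.uu, one_mul]
        · refine Or.inl ?_
          rwa [mul_assoc u, ← mul_assoc (y' * z), hu', mul_assoc u, ← mul_assoc u u, B.uu, one_mul]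
      have := hF (s * t) (mul_mem hs ht) (hhalf _ (mul_mem hs ht) hst) true
      rwa [if_pos rfl, mul_assoc, ht2, mul_one] at this
  rw [show Nat.card A = (A : Set G).ncard from Nat.card_coe_set_eq _]
  calc (A : Set G).ncard ≤ (Set.range F).ncard := Set.ncard_le_ncard hsub (Set.toFinite _)
    _ ≤ Nat.card (Bool × Bool × E) := by rw [← Nat.card_coe_set_eq]; exact Finite.card_range_le F
    _ = 4 * 2 ^ r := by
      rw [Nat.card_prod, Nat.card_prod, B.loc.card_eset, Nat.card_eq_fintype_card, Fintype.card_bool]; ring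

variable {S : Sylow 2 G} (hS : SylCfg u a (tSub T) E S r)
include hS

/-- A conjugate of `u` in `S` with a centraliser as large as `T` is moved to `u` by an element normalising `E`. -/
theorem exists_to_T {v : G} (hvS : v ∈ (S : Subgroup G)) (hv : IsConj u v) {R : Subgroup G}
    (hR : R = (S : Subgroup G) ⊓ centralizer ({v} : Set G)) (hRc : Nat.card (tSub T) ≤ Nat.card R) :
    ∃ g : G, g * v * g⁻¹ = u ∧ (∀ s ∈ R, g * s * g⁻¹ ∈ tSub T) ∧ E ≤ R ∧ ∀ e ∈ E, g * e * g⁻¹ ∈ E := by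
  classical
  haveI : Fact (Nat.Prime 2) := ⟨Nat.prime_two⟩
  obtain ⟨h, hh⟩ := isConj_iff.1 hv
  have hfix : u • h⁻¹ • a = h⁻¹ • a := by
    rw [← mul_smul, show u * h⁻¹ = h⁻¹ * v by rw [← hh]; group, mul_smul, B.S_fix hS hvS]
  obtain ⟨c, hcu, hca⟩ := B.crit.exists_smul_fix B.cfg.hu hfix B.cfg.ha
  set g0 := c * h⁻¹ with hg0
  have hg0a : g0 • a = a := by rw [hg0, mul_smul, hca]
  have hg0v : g0 * v * g0⁻¹ = u := by
    rw [hg0, ← hh, show c * h⁻¹ * (h * u * h⁻¹) * (c * h⁻¹)⁻¹ = c * u * c⁻¹ by group, hcu.eq,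
      mul_inv_cancel_right]
  have hRS : R ≤ (S : Subgroup G) := hR ▸ inf_le_left
  set R0 := R.map (MulAut.conj g0).toMonoidHom with hR0
  have hR0le : R0 ≤ ptC u a := by
    rintro _ ⟨s, hs, rfl⟩
    have hsv : s * v = v * s := by
      rw [hR] at hs
      exact mem_centralizer_singleton_iff.1 hs.2
    refine mem_ptC.2 ⟨?_, ?_⟩
    · show g0 * s * g0⁻¹ * u = u * (g0 * s * g0⁻¹)
      rw [← hg0v]
      calc g0 * s * g0⁻¹ * (g0 * v * g0⁻¹) = g0 * (s * v) * g0⁻¹ := by group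
        _ = _ := by rw [hsv]; group
    · show (g0 * s * g0⁻¹) • a = a
      rw [mul_smul, mul_smul, inv_smul_eq_iff.2 hg0a.symm, B.S_fix hS (hRS hs), hg0a]
  obtain ⟨S', hS'⟩ := (((S.2.to_le hRS).map _).comap_subtype : IsPGroup 2 (R0.subgroupOf (ptC u a))).exists_le_sylow
  obtain ⟨k, hk⟩ := MulAction.exists_smul_eq (ptC u a) S' T
  have hk' := mem_ptC.1 k.2
  set g := (k : G) * g0 with hg
  have hga : g • a = a := by rw [hg, mul_smul, hg0a, hk'.2]
  have hgv : g * v * g⁻¹ = u := by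
    rw [hg, show (k : G) * g0 * v * ((k : G) * g0)⁻¹ = k * (g0 * v * g0⁻¹) * (k : G)⁻¹ by group, hg0v, hk'.1.eq,
      mul_inv_cancel_right]
  have hgR : ∀ s ∈ R, g * s * g⁻¹ ∈ tSub T := by
    intro s hs
    have h1 : (⟨g0 * s * g0⁻¹, hR0le ⟨s, hs, rfl⟩⟩ : ptC u a) ∈ S' := hS' ⟨s, hs, rfl⟩
    refine ⟨k * ⟨g0 * s * g0⁻¹, hR0le ⟨s, hs, rfl⟩⟩ * k⁻¹, ?_, ?_⟩
    · rw [← hk]
      exact ⟨_, h1, rfl⟩
    · show (k : G) * (g0 * s * g0⁻¹) * (k : G)⁻¹ = g * s * g⁻¹
      rw [hg]; group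
  have hEq : R.map (MulAut.conj g).toMonoidHom = tSub T :=
    Subgroup.eq_of_le_of_card_ge (by rintro _ ⟨s, hs, rfl⟩; exact hgR s hs)
      (hRc.trans (le_of_eq (card_map_of_injective (MulAut.conj g).injective).symm))
  have hback : ∀ e ∈ E, g⁻¹ * e * g ∈ R ∧ g⁻¹ * e * g ∈ E := by
    intro e he
    have h2 : g⁻¹ * e * g ∈ R := by
      obtain ⟨s, hs, hse⟩ := hEq.ge (B.cfg.hE.le he)
      change g * s * g⁻¹ = e at hse
      rw [← hse]
      group
      exact hs
    refine ⟨h2, ?_⟩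
    rcases (B.cfg.hE.mem e).1 he with rfl | ⟨heD, -⟩
    · rw [mul_one, inv_mul_cancel]; exact one_mem E
    · refine B.mem_eset_of_two W S.2 hS.T_le (hRS h2) ?_ ?_
      · have := B.crit.conj g⁻¹ e heD
        rwa [inv_inv] at this
      · rw [mul_smul, mul_smul, hga, B.mem_a (B.cfg.hE.le he), inv_smul_eq_iff, hga]
  let f : E → E := fun e => ⟨g⁻¹ * e * g, (hback e e.2).2⟩
  have hf : Function.Surjective f := Finite.injective_iff_surjective.1 fun e e' he => by
    have h1 : g⁻¹ * (e : G) * g = g⁻¹ * e' * g := congrArg Subtype.val he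
    exact Subtype.ext (mul_left_cancel (mul_right_cancel h1))
  refine ⟨g, hgv, hgR, fun e he => ?_, fun e he => ?_⟩
  · obtain ⟨e0, he0⟩ := hf ⟨e, he⟩
    have : g⁻¹ * (e0 : G) * g = e := congrArg Subtype.val he0
    exact this ▸ (hback e0 e0.2).1
  · obtain ⟨e0, he0⟩ := hf ⟨e, he⟩
    have : g⁻¹ * (e0 : G) * g = e := congrArg Subtype.val he0
    rw [← this]
    group
    exact e0.2

variable {W1 : Subgroup G} (hV : VecCfg u E Q C S W1 r)
include hV

/-- The half `W₁ Q C`. -/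
theorem exists_half : ∃ M : Subgroup G, M ≤ S ∧ 2 * Nat.card M = Nat.card (S : Subgroup G) ∧
    ∀ g ∈ M, ∃ w ∈ W1, ∃ y ∈ Q, ∃ p ∈ C, g = w * y * p := by
  have hCT : C ≤ tSub T := W.C_le.trans B.cfg.P_le
  have hmem : ∀ w ∈ W1, ∀ y ∈ Q, ∀ p ∈ C, w * y * p ∈ (S : Subgroup G) := fun w hw y hy p hp =>
    mul_mem (mul_mem (hV.W1_le hw) (hS.T_le (B.loc.Q_le hy))) (hS.T_le (hCT hp))
  let M : Subgroup G :=
    { carrier := {g | ∃ w ∈ W1, ∃ y ∈ Q, ∃ p ∈ C, g = w * y * p}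
      one_mem' := ⟨1, one_mem _, 1, one_mem _, 1, one_mem _, by simp⟩
      mul_mem' := by
        rintro _ _ ⟨w, hw, y, hy, p, hp, rfl⟩ ⟨w', hw', y', hy', p', hp', rfl⟩
        refine ⟨w * (p * w' * p⁻¹), mul_mem hw (hV.norm p hp w' hw'), y * (p * y' * p⁻¹),
          mul_mem hy (B.conj_Q (hCT hp) hy'), p * p', mul_mem hp hp', ?_⟩
        have hc := (hV.cenQ _ (hV.norm p hp w' hw') y hy).eq
        calc w * y * p * (w' * y' * p') = w * (y * (p * w' * p⁻¹)) * (p * y' * p⁻¹) * (p * p') := by group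
          _ = _ := by rw [← hc]; group
      inv_mem' := by
        rintro _ ⟨w, hw, y, hy, p, hp, rfl⟩
        have hw' := hV.norm p⁻¹ (inv_mem hp) w⁻¹ (inv_mem hw)
        have hy' := B.conj_Q (inv_mem (hCT hp)) (inv_mem hy)
        refine ⟨_, hw', _, hy', p⁻¹, inv_mem hp, ?_⟩
        have hc := (hV.cenQ _ hw' _ hy').eq
        rw [hc]
        group }
  refine ⟨M, ?_, ?_, fun g hg => hg⟩
  · rintro _ ⟨w, hw, y, hy, p, hp, rfl⟩
    exact hmem w hw y hy p hp
  have hu' : u ∉ M := by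
    rintro ⟨w, hw, y, hy, p, hp, e⟩
    have hwu : Commute w u := by
      have hwe : w = u * p⁻¹ * y⁻¹ := by
        calc w = w * y * p * p⁻¹ * y⁻¹ := by group
          _ = _ := by rw [← e]
      rw [hwe]
      exact ((Commute.refl u).mul_left (B.mem_u (inv_mem (hCT hp)))).mul_left (B.Q_commute_u (inv_mem hy))
    have hwy : w * y ∈ Q := mul_mem (B.loc.eset_le (hV.inT w hw hwu)) hy
    have h1 : w * y ∈ P := by
      rw [show w * y = u * p⁻¹ by rw [e]; group]
      exact mul_mem B.cfg.u_mem (inv_mem (W.C_le hp))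
    rw [B.eq_one_of_QP hwy h1, one_mul] at e
    exact W.u_notMem (e ▸ hp)
  have huS : u ∈ (S : Subgroup G) := hS.T_le B.u_T
  let F : Bool × M → (S : Subgroup G) := fun q => ⟨(if q.1 then u else 1) * q.2, by
    obtain ⟨w, hw, y, hy, p, hp, e⟩ := q.2.2
    rw [e]
    refine mul_mem ?_ (hmem w hw y hy p hp)
    split
    · exact huS
    · exact one_mem _⟩
  have hF : Function.Bijective F := by
    constructor
    · rintro ⟨b, m⟩ ⟨b', m'⟩ e
      have e' : (if b then u else 1) * (m : G) = (if b' then u else 1) * m' := congrArg Subtype.val e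
      cases b <;> cases b' <;> simp only [Bool.false_eq_true, if_false, if_true, one_mul] at e'
      · exact Prod.ext rfl (Subtype.ext e')
      · exact absurd ((M.mul_mem_cancel_right m'.2).1 (e' ▸ m.2)) hu'
      · exact absurd ((M.mul_mem_cancel_right m.2).1 (e'.symm ▸ m'.2)) hu'
      · exact Prod.ext rfl (Subtype.ext (mul_left_cancel e'))
    · rintro ⟨s, hs⟩
      obtain ⟨w, hw, y, hy, p, hp, e | e⟩ := hV.cover s hs
      · exact ⟨(false, ⟨s, w, hw, y, hy, p, hp, e⟩), Subtype.ext (by simp [F])⟩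
      · exact ⟨(true, ⟨w * y * p, w, hw, y, hy, p, hp, rfl⟩), Subtype.ext (by simp [F, e])⟩
  have := Nat.card_eq_of_bijective F hF
  rw [Nat.card_prod, Nat.card_eq_fintype_card (α := Bool), Fintype.card_bool] at this
  exact this

/-- No `v` in `W₁ Q`. -/
theorem false_of_flat {w y g : G} (hw : w ∈ W1) (hy : y ∈ Q)
    {R : Subgroup G} (hR : R = (S : Subgroup G) ⊓ centralizer ({w * y} : Set G))
    (hgR : ∀ s ∈ R, g * s * g⁻¹ ∈ tSub T) (hgE : ∀ e ∈ E, g * e * g⁻¹ ∈ E) :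
    False := by
  classical
  -- a maximal abelian subgroup of `Q` containing `y`
  obtain ⟨y1, hy1, hy1E, hyy1⟩ : ∃ y1 ∈ Q, y1 ∉ E ∧
      ∀ k ∈ (Q ⊓ centralizer ({y1} : Set G) : Subgroup G), Commute k y := by
    by_cases hyE : y ∈ E
    · obtain ⟨y1, hy1, hy1E⟩ := B.exists_notMem_E
      exact ⟨y1, hy1, hy1E, fun k hk => (B.loc.cen y hyE k hk.1).symm⟩
    · exact ⟨y, hy, hyE, fun k hk => mem_centralizer_singleton_iff.1 hk.2⟩
  set CQ : Subgroup G := Q ⊓ centralizer ({y1} : Set G) with hCQ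
  have hQc : ∀ k ∈ CQ, ∀ k' ∈ CQ, Commute k k' := fun k hk k' hk' =>
    (B.loc.comm3 rfl y1 hy1 hy1E).2 k hk.1 k' hk'.1 (mem_centralizer_singleton_iff.1 hk.2).symm
      (mem_centralizer_singleton_iff.1 hk'.2).symm
  let A : Subgroup G :=
    { carrier := {s | ∃ w' ∈ W1, ∃ k ∈ CQ, s = w' * k}
      one_mem' := ⟨1, one_mem _, 1, one_mem _, (one_mul 1).symm⟩
      mul_mem' := by
        rintro _ _ ⟨w1, hw1, k1, hk1, rfl⟩ ⟨w2, hw2, k2, hk2, rfl⟩
        exact ⟨w1 * w2, mul_mem hw1 hw2, k1 * k2, mul_mem hk1 hk2,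
          (hV.cenQ w2 hw2 k1 hk1.1).symm.mul_mul_mul_comm _ _⟩
      inv_mem' := by
        rintro _ ⟨w1, hw1, k1, hk1, rfl⟩
        exact ⟨w1⁻¹, inv_mem hw1, k1⁻¹, inv_mem hk1, by
          rw [mul_inv_rev, (hV.cenQ w1⁻¹ (inv_mem hw1) k1⁻¹ (inv_mem hk1.1)).eq]⟩ }
  have hAc : ∀ s ∈ A, ∀ s' ∈ A, Commute s s' := by
    rintro _ ⟨w1, hw1, k1, hk1, rfl⟩ _ ⟨w2, hw2, k2, hk2, rfl⟩
    exact ((hV.comm w1 hw1 w2 hw2).mul_right (hV.cenQ w1 hw1 k2 hk2.1)).mul_left
      ((hV.cenQ w2 hw2 k1 hk1.1).symm.mul_right (hQc k1 hk1 k2 hk2))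
  have hAsq : ∀ s ∈ A, s * s ∈ E := by
    rintro _ ⟨w1, hw1, k1, hk1, rfl⟩
    rw [(hV.cenQ w1 hw1 k1 hk1.1).symm.mul_mul_mul_comm w1 k1]
    exact mul_mem (hV.sq w1 hw1) (B.loc.sq k1 hk1.1)
  have hW1A : W1 ≤ A := fun w' hw' => ⟨w', hw', 1, one_mem _, (mul_one _).symm⟩
  have hCQA : CQ ≤ A := fun k hk => ⟨1, one_mem _, k, hk, (one_mul _).symm⟩
  have hAR : A ≤ R := by
    rintro _ ⟨w1, hw1, k1, hk1, rfl⟩
    rw [hR]
    refine ⟨mul_mem (hV.W1_le hw1) (hS.T_le (B.loc.Q_le hk1.1)), mem_centralizer_singleton_iff.2 ?_⟩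
    exact (((hV.comm w1 hw1 w hw).mul_right (hV.cenQ w1 hw1 y hy)).mul_left
      ((hV.cenQ w hw k1 hk1.1).symm.mul_right (hyy1 k1 hk1))).eq
  have hAcard : 2 ^ r * 2 ^ r * 2 ^ r ≤ Nat.card A := by
    have hinf : W1 ⊓ CQ ≤ E := fun k hk => hV.inT k hk.1 (B.Q_commute_u hk.2.1)
    have h1 := card_mul_card_le_inf hCQA hW1A
    have h2 := Subgroup.card_le_of_le hinf
    rw [hV.card] at h1
    rw [B.loc.card_eset] at h2
    refine Nat.le_of_mul_le_mul_right ?_ (Nat.two_pow_pos r)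
    calc 2 ^ r * 2 ^ r * 2 ^ r * 2 ^ r = (2 ^ r * 2 ^ r) * (2 ^ r * 2 ^ r) := by ring
      _ ≤ Nat.card CQ * (2 ^ r * 2 ^ r) := Nat.mul_le_mul_right _ (B.card_centralizer_Q hy1)
      _ ≤ _ := h1.trans (Nat.mul_le_mul_left _ h2)
  set A' := A.map (MulAut.conj g).toMonoidHom with hA'
  have hA'c : ∀ s ∈ A', ∀ s' ∈ A', Commute s s' := by
    rintro _ ⟨s, hs, rfl⟩ _ ⟨s', hs', rfl⟩
    exact (hAc s hs s' hs').map _
  have hA'E : ∀ s ∈ A', ∀ e ∈ E, Commute s e := by
    intro s hs e he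
    have hEA : ∀ e0 ∈ E, g * e0 * g⁻¹ ∈ A' := fun e0 he0 =>
      ⟨e0, hW1A (hV.E_le he0), rfl⟩
    let f : E → E := fun e0 => ⟨g * e0 * g⁻¹, hgE e0 e0.2⟩
    obtain ⟨e0, he0⟩ := (Finite.injective_iff_surjective.1 fun e1 e2 h => Subtype.ext
      (mul_left_cancel (mul_right_cancel (congrArg Subtype.val h : g * (e1 : G) * g⁻¹ = g * e2 * g⁻¹))) :
      Function.Surjective f) ⟨e, he⟩
    have : g * (e0 : G) * g⁻¹ = e := congrArg Subtype.val he0
    exact this ▸ hA'c s hs _ (hEA e0 e0.2)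
  -- the squaring map on `A`
  let φ : A →* E := MonoidHom.mk' (fun s => ⟨(s : G) * s, hAsq s s.2⟩) fun s s' => Subtype.ext
    (show (s : G) * s' * ((s : G) * s') = (s : G) * s * ((s' : G) * s') from
      (hAc s' s'.2 s s.2).mul_mul_mul_comm _ _)
  have hker : 2 ^ r * 2 ^ r ≤ Nat.card φ.ker := by
    have e1 := φ.ker.card_mul_index
    rw [index_ker] at e1
    have h2 : Nat.card φ.range ≤ 2 ^ r := B.loc.card_eset ▸ Subgroup.card_le_card_group φ.range
    refine Nat.le_of_mul_le_mul_right ?_ (Nat.two_pow_pos r)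
    exact hAcard.trans (e1 ▸ Nat.mul_le_mul_left _ h2)
  obtain ⟨s, hs, hsu⟩ : ∃ s ∈ φ.ker, g * (s : G) * g⁻¹ ∉ half E u := by
    by_contra! hall
    let F : Bool × E → G := fun q => (if q.1 then u else 1) * q.2
    have hinj : Function.Injective (fun s : φ.ker => g * ((s : A) : G) * g⁻¹) := fun s s' h =>
      Subtype.ext (Subtype.ext (mul_left_cancel (mul_right_cancel h)))
    have h1 : Nat.card φ.ker ≤ Nat.card (Bool × E) := by
      rw [← Set.ncard_range_of_injective hinj]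
      refine le_trans (Set.ncard_le_ncard ?_ (Set.toFinite _))
        ((Nat.card_coe_set_eq _).symm.trans_le (Finite.card_range_le F))
      rintro _ ⟨s, rfl⟩
      rcases hall s s.2 with h | h
      · exact ⟨(false, ⟨_, h⟩), one_mul _⟩
      · exact ⟨(true, ⟨_, h⟩), by simp [F, ← mul_assoc, B.uu]⟩
    rw [Nat.card_prod, Nat.card_eq_fintype_card (α := Bool), Fintype.card_bool, B.loc.card_eset] at h1
    have h4 := B.four_le
    have h5 := Nat.mul_le_mul_right (2 ^ r) h4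
    omega
  have hA'T : A' ≤ tSub T := by
    rintro _ ⟨s0, hs0, rfl⟩
    exact hgR s0 (hAR hs0)
  have h6 := B.card_le_four W hA'T hA'c hA'E (t := g * (s : G) * g⁻¹) ⟨s, s.2, rfl⟩ (by
    have h7 : (s : G) * s = 1 := congrArg Subtype.val (MonoidHom.mem_ker.1 hs)
    rw [show g * (s : G) * g⁻¹ * (g * s * g⁻¹) = g * ((s : G) * s) * g⁻¹ by group, h7, mul_one,
      mul_inv_cancel]) hsu
  rw [hA', card_map_of_injective (MulAut.conj g).injective] at h6
  have h8 := Nat.le_of_mul_le_mul_right (hAcard.trans h6) (Nat.two_pow_pos r)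
  have h9 := Nat.mul_le_mul B.four_le B.four_le
  omega

/-- No `v` in `W₁ Q z`. -/
theorem false_of_twist {w y : G} (hw : w ∈ W1) (hy : y ∈ Q) (hv : w * y * z * (w * y * z) = 1)
    {R : Subgroup G} (hR : R = (S : Subgroup G) ⊓ centralizer ({w * y * z} : Set G))
    (hRc : Nat.card (tSub T) ≤ Nat.card R) : False := by
  have hzw := hV.norm z W.z_C w hw
  have h1 : w * (z * w * z⁻¹) * (y * (z * y * z⁻¹)) = 1 := by
    have hc := (hV.cenQ _ hzw y hy).eq
    calc w * (z * w * z⁻¹) * (y * (z * y * z⁻¹)) = w * (z * w * z⁻¹ * y) * (z * y * z⁻¹) := by group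
      _ = w * (y * (z * w * z⁻¹)) * (z * y * z⁻¹) := by rw [hc]
      _ = w * y * z * (w * y * z) * (z * z)⁻¹ := by group
      _ = 1 := by rw [hv, Invol.mul_self W.z_ord, inv_one, mul_one]
  have hyy : y * (z * y * z⁻¹) ∈ E := by
    refine hV.inT _ ?_ (B.Q_commute_u (mul_mem hy (B.conj_z W hy)))
    rw [show y * (z * y * z⁻¹) = (w * (z * w * z⁻¹))⁻¹ from eq_inv_of_mul_eq_one_right h1]
    exact inv_mem (mul_mem hw hzw)
  have hfy : y⁻¹ * (z * y * z⁻¹) ∈ E := by
    rw [show y⁻¹ * (z * y * z⁻¹) = (y * y)⁻¹ * (y * (z * y * z⁻¹)) by group]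
    exact mul_mem (inv_mem (B.loc.sq y hy)) hyy
  have hinv := W.inv_z y hy hfy
  have hinf : Q ⊓ R ≤ E := by
    intro k hk
    have hkR := hk.2
    rw [hR] at hkR
    have hc : Commute k (w * y * z) := mem_centralizer_singleton_iff.1 hkR.2
    have hc' := ((hV.cenQ w hw k hk.1).symm.inv_right).mul_right hc
    rw [show w⁻¹ * (w * y * z) = y * z by group] at hc'
    exact B.mem_E_of_comm W hy hk.1 hinv hc'
  have h2 := card_mul_card_le_inf (R := R) (X := Q) (hR ▸ inf_le_left) (B.loc.Q_le.trans hS.T_le)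
  have h3 := h2.trans (Nat.mul_le_mul_left _ (Subgroup.card_le_of_le hinf))
  rw [hS.card, B.loc.card_eset, B.card_Q] at h3
  have h4 := (Nat.mul_le_mul_right _ hRc).trans h3
  have hP := Nat.card_pos (α := tSub T)
  have h5 : Nat.card (tSub T) * (2 ^ r * 2 ^ r * 2 ^ r) ≤ Nat.card (tSub T) * (2 ^ r * 2 ^ r) := by
    linarith
  have h6 := Nat.le_of_mul_le_mul_left h5 hP
  have h7 := B.four_le
  nlinarith [Nat.mul_le_mul h7 h7]

/-- The case is impossible given the abelian half. -/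
theorem false_of_vec : False := by
  classical
  haveI : Fact (Nat.Prime 2) := ⟨Nat.prime_two⟩
  have h2 : ∀ H : Subgroup G, H.index ≠ 2 :=
    B.crit.index_ne_two B.below B.gen B.cfg.hu B.cfg.ha B.cfg.hx B.cfg.hxa.symm
  obtain ⟨M, hMS, hM, hMmem⟩ := B.exists_half W hS hV
  obtain ⟨c, hc⟩ := IsPGroup.iff_card.1 B.tSub_two
  have hTC : tSub T ≤ centralizer ({u} : Set G) := fun t ht => mem_centralizer_singleton_iff.2 (B.mem_u ht).eq
  obtain ⟨v, hvM, hv, hdiv⟩ :=
    TwoXDih.exists_extremal h2 S hMS hM B.uu (c := c) (hc ▸ Subgroup.card_dvd_of_le hTC)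
  have hRc : Nat.card (tSub T) ≤ Nat.card ((S : Subgroup G) ⊓ centralizer ({v} : Set G) : Subgroup G) := by
    rw [hc]; exact Nat.le_of_dvd Nat.card_pos hdiv
  obtain ⟨g, hgv, hgR, hER, hgE⟩ := B.exists_to_T W hS (hMS hvM) hv rfl hRc
  obtain ⟨w, hw, y, hy, p, hp, rfl⟩ := hMmem v hvM
  have hpE : ∀ e ∈ E, Commute p e := fun e he => by
    have h1 : Commute (w * y * p) e := (mem_centralizer_singleton_iff.1 (hER he).2).symm
    have h2 : Commute (w * y) e := (hV.cenQ w hw e (B.loc.eset_le he)).mul_left (B.loc.cen e he y hy).symm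
    have h3 := h2.inv_left.mul_left h1
    rwa [inv_mul_cancel_left] at h3
  rcases W.cenE_P p (W.C_le hp) hpE with rfl | rfl | rfl | rfl
  · exact B.false_of_flat W hS hV hw hy (by rw [mul_one]) hgR hgE
  · exact W.u_notMem hp
  · refine B.false_of_twist W hS hV hw hy ?_ rfl hRc
    have h1 : g * (w * y * p * (w * y * p)) * g⁻¹ = 1 := by
      rw [show g * (w * y * p * (w * y * p)) * g⁻¹ =
        g * (w * y * p) * g⁻¹ * (g * (w * y * p) * g⁻¹) by group, hgv, B.uu]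
    exact conj_eq_one_iff.1 h1
  · exact W.u_notMem ((C.mul_mem_cancel_right W.z_C).1 hp)

end

end LargeBase

end Cfsg.Agent.GoodInvol
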