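import Cfsg.Agent.Lib.GoodInvol.CaseBLarge.Defs
import Cfsg.Agent.Lib.SU3Sylow.AutStructure
import Cfsg.Agent.Lib.RankOneW.Galois

/-!
# Automorphisms of the regular subgroup of unitary type

Modulo those trivial on the central quotient an automorphism is semilinear, `a ↦ m f(a)`; one fixing the centre has
`f` trivial on the fixed field, and a 2-group of them injects into the field automorphisms, a cyclic group of order
`2 r`.
-/

set_option autoImplicit false
set_option linter.style.haveILetI false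
set_option linter.unusedSectionVars false

namespace Cfsg.Agent.GoodInvol

open Subgroup MulAction SU3Sylow

universe u v

/-- The facts carry over along an isomorphism. -/
theorem UnitaryType.congr {Q : Type u} {H : Type v} [Group Q] [Group H] {r : ℕ} (e : Q ≃* H)
    (hH : UnitaryType H r) : UnitaryType Q r := by
  set E := MulAut.congr e with hEdef
  have hc : ∀ z : Q, z ∈ Subgroup.center Q ↔ e z ∈ Subgroup.center H := fun z => by
    rw [Subgroup.mem_center_iff, Subgroup.mem_center_iff]
    refine ⟨fun h y => ?_, fun h y => e.injective ?_⟩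
    · obtain ⟨y, rfl⟩ := e.surjective y
      rw [← map_mul, h, map_mul]
    · rw [map_mul, map_mul, h]
  have hE : ∀ (φ : MulAut Q) (x : Q), E φ (e x) = e (φ x) := fun φ x => by
    show e (φ (e.symm (e x))) = _
    rw [e.symm_apply_apply]
  have hfix : ∀ φ : MulAut Q, φ ∈ fixCen Q ↔ E φ ∈ fixCen H := fun φ => by
    rw [mem_fixCen, mem_fixCen]
    refine ⟨fun h y => ?_, fun h x => (hc _).2 ?_⟩
    · obtain ⟨x, rfl⟩ := e.surjective y
      rw [hE, ← map_inv, ← map_mul]
      exact (hc _).1 (h x)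
    · rw [map_mul, map_inv, ← hE]
      exact h (e x)
  constructor
  · intro φ hφ z hz
    apply e.injective
    rw [← hE]
    exact hH.cen_fix _ (by rw [← map_mul]; exact (hfix _).1 hφ) _ ((hc z).1 hz)
  · intro φ hφ hne
    have h1 := hH.classes (E φ) (by rw [← map_mul]; exact (hfix _).1 hφ) fun h => hne ((hfix φ).2 h)
    have e1 : Nat.card {x : Q // x⁻¹ * φ x ∈ Subgroup.center Q} =
        Nat.card {x : H // x⁻¹ * E φ x ∈ Subgroup.center H} :=
      Nat.card_congr (e.toEquiv.subtypeEquiv fun x => by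
        show _ ↔ (e x)⁻¹ * E φ (e x) ∈ _
        rw [hE, ← map_inv, ← map_mul]
        exact hc _)
    have e2 : Nat.card (Subgroup.center Q) = Nat.card (Subgroup.center H) :=
      Nat.card_congr (e.toEquiv.subtypeEquiv hc)
    rw [e1, e2]
    exact h1
  · intro φ hφ hk
    refine (hfix _).2 ?_
    rw [map_mul]
    refine hH.sq_of_fix _ (fun z hz => ?_) ?_
    · obtain ⟨z, rfl⟩ := e.surjective z
      rw [hE, hφ z ((hc z).2 hz)]
    · obtain ⟨k, hk⟩ := hk
      exact ⟨k, by rw [← map_pow]; exact (hfix _).1 hk⟩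
  · intro R hR
    set f : MulAut Q ⧸ fixCen Q →* MulAut H ⧸ fixCen H :=
      QuotientGroup.map (fixCen Q) (fixCen H) E.toMonoidHom fun φ hφ => (hfix φ).1 hφ with hf
    have hinj : Function.Injective f := by
      rw [injective_iff_map_eq_one]
      intro p hp
      induction p using QuotientGroup.induction_on with
      | _ φ =>
        change ((E φ : MulAut H) : MulAut H ⧸ fixCen H) = 1 at hp
        rw [QuotientGroup.eq_one_iff] at hp
        exact (QuotientGroup.eq_one_iff φ).2 ((hfix φ).2 hp)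
    obtain ⟨h1, h2⟩ := hH.two_group (R.map f) (hR.map f)
    rw [Subgroup.card_map_of_injective hinj] at h2
    exact ⟨isCyclic_of_injective (R.equivMapOfInjective f hinj).toMonoidHom
      (R.equivMapOfInjective f hinj).injective, h2⟩

section Pure

variable {F : Type} [Field F] [CharP F 2] [Finite F] {σ : F →+* F} [Inv2 σ]

/-- The facts for the group of pairs. -/
theorem unitaryType_heis (hne : σ ≠ RingHom.id F) {n : ℕ} (hn : Nat.card (Hermitian.fixed σ) = 2 ^ n) :
    UnitaryType (Heis σ) n := by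
  classical
  haveI := Fintype.ofFinite F
  haveI : Fact (Nat.Prime 2) := ⟨Nat.prime_two⟩
  have hcl : ∀ (φ : MulAut (Heis σ)) (x : Heis σ), x⁻¹ * φ x ∈ Subgroup.center (Heis σ) ↔ (φ x).a = x.a :=
    fun φ x => by rw [Heis.mem_center_iff hne, Heis.mul_a, Heis.inv_a, CharTwo.add_eq_zero, eq_comm]
  have hfix : ∀ φ : MulAut (Heis σ), φ ∈ fixCen (Heis σ) ↔ ∀ x : Heis σ, (φ x).a = x.a :=
    fun φ => forall_congr' (hcl φ)
  choose f m hfm using fun φ : MulAut (Heis σ) => Heis.exists_semilinear hne φ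
  have huniq : ∀ (φ : MulAut (Heis σ)) (m' : Fˣ) (f' : F ≃+* F), (∀ x : Heis σ, (φ x).a = m' * f' x.a) →
      m φ = m' ∧ f φ = f' := fun φ m' f' h => Heis.semilinear_unique hne fun a => by
    obtain ⟨x, rfl⟩ := Heis.exists_mk (σ := σ) hne a
    rw [← hfm, h]
  have hone : ∀ φ : MulAut (Heis σ), φ ∈ fixCen (Heis σ) → m φ = 1 ∧ f φ = RingEquiv.refl F := fun φ h =>
    huniq φ 1 (RingEquiv.refl F) fun x => by rw [(hfix φ).1 h]; simp
  have hback : ∀ φ : MulAut (Heis σ), m φ = 1 → f φ = RingEquiv.refl F → φ ∈ fixCen (Heis σ) := fun φ h1 h2 =>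
    (hfix φ).2 fun x => by rw [hfm, h1, h2]; simp
  have hmul : ∀ φ ψ : MulAut (Heis σ), ((m (φ * ψ) : F) = m φ * f φ (m ψ)) ∧ f (φ * ψ) = (f ψ).trans (f φ) := by
    intro φ ψ
    obtain ⟨h1, h2⟩ := huniq (φ * ψ) (m φ * Units.map (f φ : F →* F) (m ψ)) ((f ψ).trans (f φ)) fun x => by
      show (φ (ψ x)).a = _
      rw [hfm, hfm, map_mul, Units.val_mul, RingEquiv.trans_apply]
      simp [mul_assoc]
    exact ⟨by rw [h1]; simp, h2⟩
  have hroot : ∀ φ : MulAut (Heis σ), f φ = RingEquiv.refl F → (∃ k : ℕ, φ ^ 2 ^ k ∈ fixCen (Heis σ)) →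
      φ ∈ fixCen (Heis σ) := by
    intro φ hφ ⟨k, hk⟩
    have hpow : ∀ i, (m (φ ^ i) : F) = (m φ : F) ^ i ∧ f (φ ^ i) = RingEquiv.refl F := by
      intro i
      induction i with
      | zero =>
        obtain ⟨h1, h2⟩ := hone 1 (one_mem _)
        rw [pow_zero, pow_zero]
        exact ⟨by rw [h1, Units.val_one], h2⟩
      | succ i ih =>
        obtain ⟨h1, h2⟩ := hmul (φ ^ i) φ
        rw [pow_succ]
        refine ⟨?_, ?_⟩
        · rw [h1, ih.1, ih.2, RingEquiv.refl_apply, pow_succ]
        · rw [h2, ih.2, hφ]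
          exact RingEquiv.ext fun a => rfl
    have h1 : (m φ : F) ^ 2 ^ k = 1 := by rw [← (hpow _).1, (hone _ hk).1, Units.val_one]
    have h2 : ((m φ : F) + 1) ^ 2 ^ k = 0 := by
      rw [add_pow_char_pow, h1, one_pow, CharTwo.add_self_eq_zero]
    exact hback φ (Units.ext (CharTwo.add_eq_zero.1 (eq_zero_of_pow_eq_zero h2))) hφ
  have hcardF : Nat.card F = (2 ^ n) ^ 2 := by
    rw [Hermitian.card_eq_sq hne Inv2.inv2, hn]
  constructor
  · intro φ hφ z hz
    exact Heis.fix_center_of_sq hne φ ((hfix _).1 hφ) hz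
  · intro φ hφ hne'
    obtain ⟨h1, h2⟩ := hmul φ φ
    obtain ⟨g1, g2⟩ := hone _ hφ
    have hff : ∀ a, f φ (f φ a) = a := fun a => by
      have := congrArg (fun g : F ≃+* F => g a) (h2.symm.trans g2)
      exact this
    have hfne : ((f φ : F ≃+* F) : F →+* F) ≠ RingHom.id F := fun e => hne' (hroot φ
      (RingEquiv.ext fun a => congrArg (fun g : F →+* F => g a) e) ⟨1, by rwa [pow_one, pow_two]⟩)
    have hcard : Nat.card (Hermitian.fixed ((f φ : F ≃+* F) : F →+* F)) = 2 ^ n :=
      Nat.pow_left_injective two_ne_zero ((Hermitian.card_eq_sq hfne hff).symm.trans hcardF)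
    -- the solutions form a line over the fixed field
    have hsol : Nat.card {a : F // (m φ : F) * f φ a = a} ≤ 2 ^ n := by
      by_cases h0 : ∀ a : F, (m φ : F) * f φ a = a → a = 0
      · haveI : Subsingleton {a : F // (m φ : F) * f φ a = a} :=
          ⟨fun a b => Subtype.ext ((h0 _ a.2).trans (h0 _ b.2).symm)⟩
        exact (Finite.card_le_one_iff_subsingleton.2 inferInstance).trans (Nat.one_le_two_pow)
      push Not at h0
      obtain ⟨a0, ha0, ha0n⟩ := h0
      rw [← hcard]
      refine Nat.card_le_card_of_injective (fun a => ⟨(a : F) / a0, ?_⟩) fun a b e => Subtype.ext ?_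
      · rw [Hermitian.mem_fixed]
        show f φ ((a : F) / a0) = _
        have hfa0 : f φ a0 ≠ 0 := (map_ne_zero (f φ)).2 ha0n
        rw [map_div₀, ← mul_div_mul_left (f φ (a : F)) (f φ a0) (m φ).ne_zero, a.2, ha0]
      · have := congrArg Subtype.val e
        exact (div_left_inj' ha0n).1 this
    choose mk hmk using fun a : F => Heis.exists_mk (σ := σ) hne a
    refine le_trans (Nat.card_le_card_of_injective (fun x : {x : Heis σ // x⁻¹ * φ x ∈ Subgroup.center (Heis σ)} =>
      ((⟨(x : Heis σ).a, by rw [← hfm]; exact (hcl φ x).1 x.2⟩ : {a : F // (m φ : F) * f φ a = a}),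
        (⟨(mk (x : Heis σ).a)⁻¹ * x, (Heis.mem_center_iff hne _).2 (by
          rw [Heis.mul_a, Heis.inv_a, hmk, CharTwo.add_self_eq_zero])⟩ : Subgroup.center (Heis σ))))
      fun x y e => Subtype.ext ?_) (by rw [Nat.card_prod]; exact Nat.mul_le_mul_right _ hsol)
    have e1 : (x : Heis σ).a = (y : Heis σ).a := congrArg (fun p => ((p.1 : {a : F // _}) : F)) e
    have e2 : (mk (x : Heis σ).a)⁻¹ * (x : Heis σ) = (mk (y : Heis σ).a)⁻¹ * y :=
      congrArg (fun p => ((p.2 : Subgroup.center (Heis σ)) : Heis σ)) e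
    rw [e1] at e2
    exact mul_left_cancel e2
  · intro φ hφ ⟨k, hk⟩
    -- the norm form is preserved
    have hnrm : ∀ a : F, ((m φ : F) * f φ a) * σ ((m φ : F) * f φ a) = a * σ a := fun a => by
      obtain ⟨x, rfl⟩ := Heis.exists_mk (σ := σ) hne a
      have h1 : x * x ∈ Subgroup.center (Heis σ) := (Heis.mem_center_iff hne _).2 (by
        rw [Heis.mul_a, CharTwo.add_self_eq_zero])
      have h2 := hφ _ h1
      rw [map_mul, Heis.mul_self, Heis.mul_self] at h2
      have h3 := congrArg Heis.b h2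
      simp only [Heis.cen_b] at h3
      rw [← hfm]
      exact h3
    have hm1 : (m φ : F) * σ (m φ : F) = 1 := by simpa using hnrm 1
    have hK : ∀ c : F, σ c = c → f φ c = c := fun c hc => by
      obtain ⟨a, ha⟩ := nrm_surjective hne (⟨c, Hermitian.mem_fixed.2 hc⟩ : Hermitian.fixed σ)
      have ha' : a * σ a = c := congrArg Subtype.val ha
      have h1 := hnrm a
      rw [map_mul, ha', show (m φ : F) * f φ a * (σ (m φ : F) * σ (f φ a)) =
        (m φ : F) * σ (m φ : F) * (f φ a * σ (f φ a)) by ring, hm1, one_mul, ← Heis.comm_sigma hne (f φ),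
        ← map_mul, ha'] at h1
      exact h1
    have hff : ∀ a, f φ (f φ a) = a := fun a => by
      have hs : σ (a + σ a) = a + σ a := by rw [map_add, Inv2.inv2, add_comm]
      have hp : σ (a * σ a) = a * σ a := by rw [map_mul, Inv2.inv2, mul_comm]
      have e1 := hK _ hs
      have e2 := hK _ hp
      rw [map_add, Heis.comm_sigma hne] at e1
      rw [map_mul, Heis.comm_sigma hne] at e2
      have h2 : (f φ a - a) * (f φ a - σ a) = 0 := by linear_combination f φ a * e1 - e2
      rcases mul_eq_zero.1 h2 with h | h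
      · rw [sub_eq_zero] at h; rw [h, h]
      · rw [sub_eq_zero] at h; rw [h, Heis.comm_sigma hne, h, Inv2.inv2]
    refine hroot _ ?_ ⟨k, ?_⟩
    · rw [(hmul φ φ).2]
      exact RingEquiv.ext fun a => hff a
    · rw [← pow_two, ← pow_mul, mul_comm, pow_mul, pow_two]
      exact mul_mem hk hk
  · intro R hR
    let Θ : MulAut (Heis σ) →* (F ≃+* F) :=
      { toFun := f
        map_one' := (hone 1 (one_mem _)).2
        map_mul' := fun φ ψ => (hmul φ ψ).2 }
    let Θ' : MulAut (Heis σ) ⧸ fixCen (Heis σ) →* (F ≃+* F) :=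
      QuotientGroup.lift (fixCen (Heis σ)) Θ fun φ hφ => (hone φ hφ).2
    let g : R →* (F ≃+* F) := Θ'.comp R.subtype
    have hinj : Function.Injective g := by
      rw [injective_iff_map_eq_one]
      rintro ⟨p, hp⟩ hp1
      refine Subtype.ext ?_
      revert hp hp1
      induction p using QuotientGroup.induction_on with
      | _ φ =>
        intro hp hp1
        refine (QuotientGroup.eq_one_iff φ).2 (hroot φ hp1 ?_)
        obtain ⟨k, hk⟩ := hR ⟨_, hp⟩
        exact ⟨k, (QuotientGroup.eq_one_iff _).1 (congrArg Subtype.val hk)⟩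
    haveI : IsCyclic (F ≃+* F) := RankOne.isCyclic_aut
    refine ⟨isCyclic_of_injective g hinj, (Nat.card_le_card_of_injective g hinj).trans (le_of_eq ?_)⟩
    have h := RankOne.FieldMaps.card_aut (F := F)
    rw [← Nat.card_eq_fintype_card, hcardF, ← pow_mul] at h
    rw [← Nat.pow_right_injective le_rfl h, mul_comm]

end Pure

variable {G : Type u} [Group G] [Finite G] {Ω : Type u} [MulAction G Ω] [Finite Ω] [FaithfulSMul G Ω]

namespace LargeBase

variable {D : Set G} {u : G} {a x : Ω} {T : Sylow 2 (ptC u a)} {E P Q K K1 : Subgroup G} {r : ℕ}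
  (B : LargeBase D u a x T E P Q K K1 r)
include B

/-- The regular subgroup is of unitary type. -/
theorem unitaryType : UnitaryType Q r := by
  classical
  haveI : Fact (Nat.Prime 2) := ⟨Nat.prime_two⟩
  have h := B.crit
  obtain ⟨r', e', hP', hf', hq'⟩ :=
    h.exists_fix_params B.below B.gen B.cfg.hu B.cfg.hbad B.cfg.ha B.tSub_le B.cfg.hE
  obtain rfl : r' = r := Nat.pow_right_injective le_rfl (hq'.symm.trans B.loc.card_eset)
  obtain rfl : e' = 3 := by
    have h2 := B.loc.card_fix
    rw [hf'] at h2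
    exact Nat.eq_of_mul_eq_mul_right (by have := B.loc.two_le; omega)
      (Nat.pow_right_injective le_rfl (Nat.add_right_cancel h2))
  set ρ : Q →* induced (cenD D u) (fixSub Ω u) := (genHom D Ω u).comp (inclusion B.loc.Q_gen) with hρ
  have hinj : Function.Injective ρ := by
    rw [injective_iff_map_eq_one]
    intro y hy
    exact Subtype.ext (B.eq_one_of_fix y.2 (genHom_eq_one_iff.1 hy x B.cfg.hx))
  obtain ⟨P0, hP0⟩ := ((B.tSub_two.to_le B.loc.Q_le).of_surjective ρ.rangeRestrict ρ.rangeRestrict_surjective :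
    IsPGroup 2 ρ.range).exists_le_sylow
  have hPρ : (P0 : Subgroup (induced (cenD D u) (fixSub Ω u))) = ρ.range := by
    refine (eq_of_le_of_card_ge hP0 (le_of_eq ?_)).symm
    rw [Nat.card_congr (MonoidHom.ofInjective hinj).toEquiv.symm, (hP'.sylow P0).1, B.loc.card_Q]
  let e1 : Q ≃* (P0 : Subgroup (induced (cenD D u) (fixSub Ω u))) :=
    (MonoidHom.ofInjective hinj).trans (MulEquiv.subgroupCongr hPρ.symm)
  have huniq : ∀ {n e : ℕ}, BenderParams (induced (cenD D u) (fixSub Ω u)) n e → n = r' ∧ e = 3 :=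
    fun {n e} hn => by
    obtain ⟨h1, h2⟩ := hn.sylow P0
    obtain ⟨h1', h2'⟩ := hP'.sylow P0
    rw [h1] at h1'
    rw [h2] at h2'
    have e1 := Nat.pow_right_injective le_rfl h2'
    have e2 := Nat.pow_right_injective le_rfl h1'
    subst e1
    exact ⟨rfl, Nat.eq_of_mul_eq_mul_right (by have := hP'.two_le; omega) e2⟩
  rcases h.isBender_induced B.below B.gen B.cfg.hu B.cfg.hbad B.cfg.ha B.cfg.hE with
    ⟨F, _, _, ⟨n, hn, hF⟩, ⟨f⟩⟩ | ⟨F, _, _, m, hm, hF, ⟨f⟩⟩ | ⟨F, _, _, n, hn, hF, ⟨f⟩⟩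
  · haveI : CharP F 2 := charP_of_card_eq_prime_pow hF
    obtain ⟨g⟩ := SEMain.psl_equiv_sl (F := F)
    exact absurd (huniq ((params_sl_two hn hF).congr (f.trans g))).2 (by norm_num)
  · have hsz : Suzuki.SzField F m := ⟨hm, hF⟩
    exact absurd (huniq ((params_sz hsz).congr (f.trans (Suzuki.minorEquiv hsz).symm))).2 (by norm_num)
  · obtain rfl := (huniq ((params_psu hn hF).congr f)).1
    obtain ⟨_, σ, _, hne, hσ, hq⟩ := SU3Sylow.setup (by omega : 1 ≤ n) hF
    set P' := P0.mapSurjective (f := f.toMonoidHom) f.surjective with hP''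
    obtain ⟨g⟩ := SU3Sylow.sylow_PSU_equiv hne (by omega) hσ hq P'
    exact UnitaryType.congr ((e1.trans ((P0 : Subgroup _).equivMapOfInjective f.toMonoidHom f.injective)).trans g)
      (unitaryType_heis hne hq)

end LargeBase

end Cfsg.Agent.GoodInvol
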