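import Cfsg.Agent.Lib.GoodInvol.CaseBLarge.Defs
import Cfsg.Agent.Lib.GoodInvol.CaseBLarge.HeisAut
import Cfsg.Agent.Lib.GoodInvol.CaseBLarge.Chord
import Cfsg.Agent.Lib.GoodInvol.Outer

/-!
# A large 2-group on two points: the group fixing the points

An element fixing `a` and `x`, normalising `Q` and trivial on `Q / E` acts trivially on the fixed points of `u`: with a
conjugate of it under the torus it is a pair of involutory outer actions. So `P / ⟨u⟩` is cyclic; no element of `P`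
squares to `u`, as `u` and `u f` are conjugate. Hence `P = ⟨u⟩ × C`, and the chord describes the involution of `C`.
-/

set_option autoImplicit false
set_option linter.style.haveILetI false
set_option linter.unusedSectionVars false

namespace Cfsg.Agent.GoodInvol

open Subgroup MulAction

universe u

variable {G : Type u} [Group G] [Finite G] {Ω : Type u} [MulAction G Ω] [Finite Ω] [FaithfulSMul G Ω] {D : Set G}

namespace LargeBase

variable {u : G} {a x : Ω} {T : Sylow 2 (ptC u a)} {E P Q K K1 : Subgroup G} {r : ℕ}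
  (B : LargeBase D u a x T E P Q K K1 r)
include B

theorem pairCfg : PairCfg D u a x T E Q K K1 r :=
  ⟨B.cfg.hu, B.cfg.hbad, B.cfg.ha, B.cfg.hx, B.cfg.hxa, B.cfg.hE, B.cfg.hW, B.loc⟩

/-- Some element of the torus centralising `E` fixes no class but the trivial one. -/
theorem exists_torus1 : ∃ k ∈ K1, ∀ y ∈ Q, k * y * k⁻¹ * y⁻¹ ∈ E → y ∈ E := by
  obtain ⟨k, hk, hk'⟩ : ∃ k ∈ K1, k ∉ kerCore Ω u := by
    by_contra! hall
    obtain ⟨g, hg, hcard⟩ := B.loc.K1_card rfl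
    rw [Subgroup.relIndex_eq_one.2 fun k hk => (fixCore_le _ (mem_kerCore.1 (hall k hk)).1 : k ∈ fixStab Ω u),
      one_mul] at hcard
    have := Nat.le_of_dvd (by norm_num) hg
    have := B.four_le
    omega
  refine ⟨k, hk, fun y hy he => ?_⟩
  by_contra hyE
  exact hk' (B.loc.K_fpfQ k (mem_sup_right hk) y hy hyE he)

/-- An element fixing `a`, `x` and each class of `Q` fixes all fixed points of `u`. -/
theorem fix_of_trivial {d : G} (hd : Commute d u) (hda : d • a = a) (hdx : d • x = x)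
    (hdQ : d ∈ normalizer (Q : Set G)) (htriv : ∀ y ∈ Q, y⁻¹ * (d * y * d⁻¹) ∈ E) :
    ∀ p : Ω, u • p = p → d • p = p := by
  classical
  have h := B.crit
  -- the difference homomorphism
  let δ : Q →* G :=
    { toFun := fun y => (y : G)⁻¹ * (d * y * d⁻¹)
      map_one' := by simp
      map_mul' := fun y z => by
        show ((y : G) * z)⁻¹ * (d * ((y : G) * z) * d⁻¹) = (y : G)⁻¹ * (d * y * d⁻¹) * ((z : G)⁻¹ * (d * z * d⁻¹))
        calc ((y : G) * z)⁻¹ * (d * ((y : G) * z) * d⁻¹)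
            = (z : G)⁻¹ * ((y : G)⁻¹ * (d * y * d⁻¹)) * (d * z * d⁻¹) := by group
          _ = _ := by
            rw [← (B.loc.cen _ (htriv y y.2) _ (inv_mem z.2)).eq]
            group }
  have hδ : ∀ y : Q, δ y = (y : G)⁻¹ * (d * y * d⁻¹) := fun _ => rfl
  have hδE : ∀ y : Q, δ y ∈ E := fun y => htriv y y.2
  have hdy : ∀ y : Q, d * (y : G) * d⁻¹ = y * δ y := fun y => by rw [hδ, mul_inv_cancel_left]
  -- `d` centralises `E`
  have hfc : Q.normalizerMonoidHom ⟨d, hdQ⟩ ∈ fixCen Q := B.mem_fixCen_conj.2 htriv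
  have hdE : ∀ e ∈ E, d * e * d⁻¹ = e := fun e he =>
    congrArg Subtype.val (B.unitaryType.cen_fix _ (mul_mem hfc hfc) ⟨e, B.loc.eset_le he⟩ (B.mem_center.2 he))
  have hδe : ∀ y : Q, (y : G) ∈ E → δ y = 1 := fun y hy => by rw [hδ, hdE _ hy, inv_mul_cancel]
  have hd2 : ∀ y : Q, d * (d * (y : G) * d⁻¹) * d⁻¹ = y := fun y => by
    rw [hdy, show d * ((y : G) * δ y) * d⁻¹ = (d * y * d⁻¹) * (d * δ y * d⁻¹) by group, hdy, hdE _ (hδE y),
      mul_assoc, B.cfg.hE.sq _ (hδE y), mul_one]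
  have hsm : ∀ y : G, d • y • x = (d * y * d⁻¹) • x := fun y => by
    rw [mul_smul, mul_smul, inv_smul_eq_iff.2 hdx.symm]
  have hpts : ∀ p : Ω, u • p = p → p = a ∨ ∃ y : Q, (y : G) • x = p := fun p hp => by
    by_cases hpa : p = a
    · exact Or.inl hpa
    obtain ⟨y, ⟨hy, hyp⟩, -⟩ := B.loc.reg p hp hpa
    exact Or.inr ⟨⟨y, hy⟩, hyp⟩
  -- a conjugate under the torus
  obtain ⟨k, hk, hkfpf⟩ := B.exists_torus1
  have hku : Commute k u := commute_of_genC (B.loc.K1_le hk)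
  obtain ⟨hka, hkx⟩ := B.loc.K1_fix k hk
  set d' := k * d * k⁻¹ with hd'
  have hd'u : Commute d' u := (hku.mul_left hd).mul_left hku.inv_left
  have hd'a : d' • a = a := by rw [hd', mul_smul, mul_smul, inv_smul_eq_iff.2 hka.symm, hda, hka]
  have hd'x : d' • x = x := by rw [hd', mul_smul, mul_smul, inv_smul_eq_iff.2 hkx.symm, hdx, hkx]
  have hkQ : ∀ y : Q, k⁻¹ * (y : G) * k ∈ Q := fun y => by
    have := (B.loc.K_normQ k⁻¹ (inv_mem (mem_sup_right hk)) y).2 y.2
    rwa [inv_inv] at this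
  let c : Q → Q := fun y => ⟨k⁻¹ * (y : G) * k, hkQ y⟩
  have hd'y : ∀ y : Q, d' * (y : G) * d'⁻¹ = y * δ (c y) := fun y => by
    have h1 : Commute k (δ (c y)) := B.loc.K1_eset k hk _ (hδE _)
    calc d' * (y : G) * d'⁻¹ = k * (d * (c y : G) * d⁻¹) * k⁻¹ := by
          show _ = k * (d * (k⁻¹ * (y : G) * k) * d⁻¹) * k⁻¹
          rw [hd']; group
      _ = (y : G) * (k * δ (c y) * k⁻¹) := by
          rw [hdy]
          show k * ((k⁻¹ * (y : G) * k) * δ (c y)) * k⁻¹ = _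
          group
      _ = _ := by rw [h1.eq, mul_inv_cancel_right]
  have hsm' : ∀ y : G, d' • y • x = (d' * y * d'⁻¹) • x := fun y => by
    rw [mul_smul (d' * y), mul_smul d', inv_smul_eq_iff.2 hd'x.symm]
  -- the pair on the fixed points
  let d0 : Subgroup.centralizer ({u} : Set G) := ⟨d, mem_centralizer_singleton_iff.2 hd.eq⟩
  let d1 : Subgroup.centralizer ({u} : Set G) := ⟨d', mem_centralizer_singleton_iff.2 hd'u.eq⟩
  let aF : fixSub Ω u := ⟨a, B.cfg.ha⟩
  let xF : fixSub Ω u := ⟨x, B.cfg.hx⟩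
  have hcomm : ∀ z : fixSub Ω u, d0 • d1 • z = d1 • d0 • z := fun z => Subtype.ext (by
    show d • d' • (z : Ω) = d' • d • (z : Ω)
    rcases hpts z z.2 with e | ⟨y, e⟩
    · rw [e, hd'a, hda, hd'a]
    · have hd'e : d' * δ y * d'⁻¹ = δ y := by
        have hke : Commute k⁻¹ (δ y) := (B.loc.K1_eset k hk _ (hδE y)).inv_left
        calc d' * δ y * d'⁻¹ = k * (d * (k⁻¹ * δ y * k) * d⁻¹) * k⁻¹ := by rw [hd']; group
          _ = k * (d * δ y * d⁻¹) * k⁻¹ := by rw [hke.eq, inv_mul_cancel_right]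
          _ = _ := by rw [hdE _ (hδE y), (B.loc.K1_eset k hk _ (hδE y)).eq, mul_inv_cancel_right]
      rw [← e, hsm', hsm, hsm, hsm', hd'y, hdy,
        show d * ((y : G) * δ (c y)) * d⁻¹ = (d * y * d⁻¹) * (d * δ (c y) * d⁻¹) by group, hdy, hdE _ (hδE _),
        show d' * ((y : G) * δ y) * d'⁻¹ = (d' * y * d'⁻¹) * (d' * δ y * d'⁻¹) by group, hd'y, hd'e,
        mul_assoc, (B.cfg.hE.comm _ (hδE y) _ (hδE (c y))).eq, mul_assoc])
  have hinv0 : ∀ z : fixSub Ω u, d0 • d0 • z = z := fun z => Subtype.ext (by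
    show d • d • (z : Ω) = z
    rcases hpts z z.2 with e | ⟨y, e⟩
    · rw [e, hda, hda]
    · rw [← e, hsm, hsm, hd2])
  have hinv1 : ∀ z : fixSub Ω u, d1 • d1 • z = z := fun z => Subtype.ext (by
    show d' • d' • (z : Ω) = z
    have hz : u • k⁻¹ • (z : Ω) = k⁻¹ • (z : Ω) := B.fix_smul hku.inv_left z.2
    have hzz : d • d • k⁻¹ • (z : Ω) = k⁻¹ • (z : Ω) := congrArg Subtype.val (hinv0 ⟨_, hz⟩)
    rw [hd']
    simp only [mul_smul, inv_smul_smul]
    rw [hzz, smul_inv_smul])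
  rcases outer_pair (h.centralizer B.cfg.hu) (goal_centralizer B.below h B.gen B.cfg.hu B.cfg.ha)
      (h.isBender_induced B.below B.gen B.cfg.hu B.cfg.hbad B.cfg.ha B.cfg.hE) hcomm hinv0 hinv1
      (x := aF) (y := xF) (fun e => B.cfg.hxa (congrArg Subtype.val e).symm) (Subtype.ext hda) (Subtype.ext hdx)
      (Subtype.ext hd'a) (Subtype.ext hd'x) with h1 | h1 | h1
  · exact fun p hp => congrArg Subtype.val (h1 ⟨p, hp⟩)
  · intro p hp
    have h2 : d' • k • p = k • p := congrArg Subtype.val (h1 ⟨k • p, B.fix_smul hku hp⟩)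
    rw [hd', mul_smul, mul_smul, inv_smul_smul] at h2
    exact MulAction.injective k h2
  -- equal actions: `δ` vanishes on the commutators with `k`
  have heq : ∀ y : Q, δ (c y) = δ y := fun y => by
    have h2 : d • (y : G) • x = d' • (y : G) • x :=
      congrArg Subtype.val (h1 ⟨(y : G) • x, B.fix_smul (B.Q_commute_u y.2) B.cfg.hx⟩)
    rw [hsm, hsm', hdy, hd'y] at h2
    exact (mul_left_cancel (B.pairCfg.eq_of_smul_x (mul_mem y.2 (B.loc.eset_le (hδE _)))
      (mul_mem y.2 (B.loc.eset_le (hδE _))) h2)).symm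
  let E0 : Subgroup Q := E.subgroupOf Q
  haveI : E0.Normal := ⟨fun e he y => by
    rw [mem_subgroupOf] at he ⊢
    show (y : G) * e * (y : G)⁻¹ ∈ E
    rw [← (B.loc.cen _ he y y.2).eq, mul_inv_cancel_right]
    exact he⟩
  have hqc : ∀ p q : Q ⧸ E0, p * q = q * p := fun p q => by
    induction p using QuotientGroup.induction_on with
    | _ p =>
      induction q using QuotientGroup.induction_on with
      | _ q =>
        rw [← QuotientGroup.mk_mul, ← QuotientGroup.mk_mul, QuotientGroup.eq, mem_subgroupOf]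
        have := B.loc.comm _ (inv_mem q.2) _ (inv_mem p.2)
        simpa [mul_assoc] using this
  let σ : Q →* Q :=
    { toFun := fun y => ⟨k * (y : G) * k⁻¹, (B.loc.K_normQ k (mem_sup_right hk) y).2 y.2⟩
      map_one' := Subtype.ext (by simp)
      map_mul' := fun y z => Subtype.ext (by simp [mul_assoc]) }
  let π := QuotientGroup.mk' E0
  let ψ : Q →* Q ⧸ E0 :=
    { toFun := fun y => π (σ y) * (π y)⁻¹
      map_one' := by simp
      map_mul' := fun y z => by
        rw [map_mul, map_mul, map_mul, mul_inv_rev, ← mul_assoc, mul_assoc (π (σ y)) (π (σ z)),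
          hqc (π (σ y)) (π (σ z) * (π z)⁻¹), mul_assoc, hqc (π (σ y) * (π y)⁻¹)] }
  have hker : E0 ≤ ψ.ker := fun y hy => by
    show π (σ y) * (π y)⁻¹ = 1
    rw [mul_inv_eq_one, show σ y = y from Subtype.ext (by
      show k * (y : G) * k⁻¹ = y
      rw [(show Commute k (y : G) from B.loc.K1_eset k hk _ hy).eq, mul_inv_cancel_right])]
  have hinj : Function.Injective (QuotientGroup.lift E0 ψ hker) := by
    rw [injective_iff_map_eq_one]
    intro p hp
    induction p using QuotientGroup.induction_on with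
    | _ y =>
      change π (σ y) * (π y)⁻¹ = 1 at hp
      rw [← map_inv, ← map_mul, QuotientGroup.mk'_apply, QuotientGroup.eq_one_iff] at hp
      exact (QuotientGroup.eq_one_iff y).2 (hkfpf y y.2 hp)
  have hδ1 : ∀ y : Q, δ y = 1 := fun y => by
    obtain ⟨p, hp⟩ := Finite.injective_iff_surjective.1 hinj (π y)
    induction p using QuotientGroup.induction_on with
    | _ z =>
      change π (σ z) * (π z)⁻¹ = π y at hp
      rw [← map_inv, ← map_mul, QuotientGroup.mk'_apply, QuotientGroup.mk'_apply, QuotientGroup.eq] at hp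
      have h2 : δ (σ z) = δ z := by
        rw [← heq (σ z)]
        congr 1
        exact Subtype.ext (by
          show k⁻¹ * (k * (z : G) * k⁻¹) * k = z
          group)
      have h3 := hδe _ (mem_subgroupOf.1 hp)
      rw [map_mul, map_inv, map_mul, map_inv, h2, mul_inv_cancel, inv_one, one_mul] at h3
      exact h3
  intro p hp
  rcases hpts p hp with rfl | ⟨y, rfl⟩
  · exact hda
  · rw [hsm, hdy, hδ1, mul_one]

/-- An element fixing `a`, `x` and each class of `Q` centralises `Q`. -/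
theorem commute_of_trivial {d : G} (hd : Commute d u) (hda : d • a = a) (hdx : d • x = x)
    (hdQ : d ∈ normalizer (Q : Set G)) (htriv : ∀ y ∈ Q, y⁻¹ * (d * y * d⁻¹) ∈ E) :
    ∀ y ∈ Q, Commute d y := by
  intro y hy
  refine mul_inv_eq_iff_eq_mul.1 (B.pairCfg.eq_of_smul_x ((mem_normalizer_iff.1 hdQ y).1 hy) hy ?_)
  rw [mul_smul, mul_smul, inv_smul_eq_iff.2 hdx.symm,
    B.fix_of_trivial hd hda hdx hdQ htriv _ (B.fix_smul (B.Q_commute_u hy) B.cfg.hx)]

/-- `P = ⟨u⟩ × C`. -/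
theorem exists_twist : ∃ z C, TwistCfg u z E P Q C r := by
  classical
  haveI : Fact (Nat.Prime 2) := ⟨Nat.prime_two⟩
  have h := B.crit
  have hPN : P ≤ normalizer (Q : Set G) := B.cfg.P_le.trans B.T_le_normQ
  set φ : P →* MulAut Q := Q.normalizerMonoidHom.comp (Subgroup.inclusion hPN) with hφ
  set ρ : P →* MulAut Q ⧸ fixCen Q := (QuotientGroup.mk' (fixCen Q)).comp φ with hρ
  have hPu : ∀ {p : G}, p ∈ P → Commute p u := fun hp => B.mem_u (B.cfg.P_le hp)
  -- the kernel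
  have hker : ∀ p : P, ρ p = 1 ↔ (p : G) = 1 ∨ (p : G) = u := fun p => by
    rw [show ρ p = ((φ p : MulAut Q) : MulAut Q ⧸ fixCen Q) from rfl, QuotientGroup.eq_one_iff]
    rw [show φ p = Q.normalizerMonoidHom (Subgroup.inclusion hPN p) from rfl, B.mem_fixCen_conj, coe_inclusion]
    refine ⟨fun hp => B.cfg.hW _ ⟨B.cfg.P_le p.2, B.fix_of_trivial (hPu p.2) (B.mem_a (B.cfg.P_le p.2))
      (B.cfg.P_fix _ p.2) (hPN p.2) hp⟩, fun hp y hy => ?_⟩
    have hc : Commute (p : G) y := by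
      rcases hp with e | e <;> rw [e]
      exacts [Commute.one_left y, (B.Q_commute_u hy).symm]
    rw [hc.eq, mul_inv_cancel_right, inv_mul_cancel]
    exact one_mem E
  -- the chord
  have hchord : ∀ {p : G}, p ∈ P → (p * p = 1 ∨ p * p = u) → p ≠ 1 → p ≠ u → PairCfg.Chord3 u E Q p r :=
    fun {p} hp h2 h1 hu' => B.pairCfg.chord h B.below B.gen (B.cfg.P_le hp) (B.cfg.P_fix p hp) h2 h1 hu'
  -- no element squares to `u`
  have hnosq : ∀ p ∈ P, p * p ≠ u := by
    intro p hp hpu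
    have hp1 : p ≠ 1 := fun e => Invol.ne_one B.cfg.hu (by rw [← hpu, e, one_mul])
    have hpne : p ≠ u := fun e => Invol.ne_one B.cfg.hu (by rw [← hpu, e, B.uu])
    have hch := hchord hp (Or.inr hpu) hp1 hpne
    obtain ⟨f, hf, -, -, hf1, -⟩ := B.cfg.hE.two
    obtain ⟨c, hc, hcu⟩ := h.exists_conj_coset B.below B.gen B.cfg.hu B.cfg.hbad B.cfg.ha B.tSub_le B.cfg.hE hf
    obtain ⟨hcN, hca⟩ := mem_inf.1 hc
    set p' := c * p * c⁻¹ with hp'
    have hp'2 : p' * p' = u * f := by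
      rw [hp', show c * p * c⁻¹ * (c * p * c⁻¹) = c * (p * p) * c⁻¹ by group, hpu, hcu]
    have hp'e : Commute p' f := by
      have h1 : c⁻¹ * f * c ∈ E := by
        have := ((inv_mem hcN).1 f).2 hf
        rwa [inv_inv] at this
      have h2 : Commute (c * p * c⁻¹) (c * (c⁻¹ * f * c) * c⁻¹) := (hch.cen_E _ h1).map (MulAut.conj c).toMonoidHom
      rwa [show c * (c⁻¹ * f * c) * c⁻¹ = f by group] at h2
    have hp'u : Commute p' u := by
      have h1 : Commute p' (u * f) := hp'2 ▸ (Commute.refl p').mul_right (Commute.refl p')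
      have h2 := h1.mul_right hp'e
      rwa [mul_assoc, B.cfg.hE.sq f hf, mul_one] at h2
    have hp'a : p' • a = a := by
      have hc' : c • a = a := mem_stabilizer_iff.1 hca
      rw [hp', mul_smul, mul_smul, inv_smul_eq_iff.2 hc'.symm, B.mem_a (B.cfg.P_le hp), hc']
    set p0 : ptC u a := ⟨p', mem_ptC.2 ⟨hp'u, hp'a⟩⟩ with hp0
    have hP0 : IsPGroup 2 (zpowers p0) := by
      obtain ⟨k, hk⟩ := B.P_two ⟨p, hp⟩
      have h1 : p ^ 2 ^ k = 1 := congrArg Subtype.val hk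
      obtain ⟨j, -, hj⟩ := (Nat.dvd_prime_pow Nat.prime_two).1
        (orderOf_dvd_of_pow_eq_one (show p0 ^ 2 ^ k = 1 from Subtype.ext (by
          show (c * p * c⁻¹) ^ 2 ^ k = 1
          rw [conj_pow, h1, mul_one, mul_inv_cancel])))
      exact IsPGroup.of_card (n := j) (by rw [Nat.card_zpowers, hj])
    obtain ⟨T', hT'⟩ := hP0.exists_le_sylow
    obtain ⟨g, hg⟩ := MulAction.exists_smul_eq (ptC u a) T' T
    have hm : g * p0 * g⁻¹ ∈ (T : Subgroup (ptC u a)) := by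
      rw [← hg, Sylow.coe_subgroup_smul]
      exact ⟨p0, hT' (mem_zpowers p0), rfl⟩
    obtain ⟨hgu, -⟩ := mem_ptC.1 g.2
    set t := (g : G) * p' * (g : G)⁻¹ with ht
    have htT : t ∈ tSub T := ⟨_, hm, rfl⟩
    set f' := (g : G) * f * (g : G)⁻¹ with hf'
    have ht2 : t * t = u * f' := by
      rw [ht, show (g : G) * p' * (g : G)⁻¹ * ((g : G) * p' * (g : G)⁻¹) = (g : G) * (p' * p') * (g : G)⁻¹ by group,
        hp'2, hf', show (g : G) * (u * f) * (g : G)⁻¹ = ((g : G) * u * (g : G)⁻¹) * ((g : G) * f * (g : G)⁻¹) by group,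
        hgu.eq, mul_inv_cancel_right]
    have hf'E : f' ∈ E := (B.cfg.hE.mem f').2 (Or.inr ⟨h.conj _ _ (((B.cfg.hE.mem f).1 hf).resolve_left hf1).1, by
      rw [show f' = u⁻¹ * (t * t) by rw [ht2, inv_mul_cancel_left]]
      exact mul_mem (inv_mem B.u_T) (mul_mem htT htT)⟩)
    obtain ⟨y, hy, q, hq, hyq⟩ := B.split_T htT
    set z := y * (q * y * q⁻¹) with hz
    have hzQ : z ∈ Q := mul_mem hy (B.conj_Q (B.cfg.P_le hq) hy)
    have e1 : z * (q * q) = f' * u := by
      rw [(B.Q_commute_u (B.loc.eset_le hf'E)).eq, ← ht2, hyq, hz]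
      group
    have hqq : q * q = u := by
      have h1 : z⁻¹ * f' = q * q * u⁻¹ := by
        rw [eq_mul_inv_iff_mul_eq, mul_assoc, ← e1, inv_mul_cancel_left]
      have h2 := B.eq_one_of_QP (mul_mem (inv_mem hzQ) (B.loc.eset_le hf'E))
        (h1 ▸ mul_mem (mul_mem hq hq) (inv_mem B.cfg.u_mem))
      rw [h1] at h2
      exact mul_inv_eq_one.1 h2
    rw [hqq] at e1
    have hzf : z = f' := mul_right_cancel e1
    have hq1 : q ≠ 1 := fun e => Invol.ne_one B.cfg.hu (by rw [← hqq, e, one_mul])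
    have hqne : q ≠ u := fun e => Invol.ne_one B.cfg.hu (by rw [← hqq, e, B.uu])
    have hcl : y⁻¹ * (q * y * q⁻¹) ∈ E := by
      rw [show y⁻¹ * (q * y * q⁻¹) = (y * y)⁻¹ * z by rw [hz]; group, hzf]
      exact mul_mem (inv_mem (B.loc.sq y hy)) hf'E
    rw [hz, (hchord hq (Or.inr hqq) hq1 hqne).inv y hy hcl, mul_inv_cancel] at hzf
    exact hf1 (conj_eq_one_iff.1 hzf.symm)
  -- `P / ⟨u⟩` is cyclic
  obtain ⟨hcyc, -⟩ := B.unitaryType.two_group ρ.range (B.P_two.of_surjective ρ.rangeRestrict ρ.rangeRestrict_surjective)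
  obtain ⟨⟨_, p0, rfl⟩, hgen⟩ := hcyc.exists_generator
  have hrep : ∀ p : P, ∃ i : ℤ, ρ (p * (p0 ^ i)⁻¹) = 1 := fun p => by
    obtain ⟨i, hi⟩ := mem_zpowers_iff.1 (hgen ⟨ρ p, p, rfl⟩)
    refine ⟨i, ?_⟩
    have hi' : (ρ p0) ^ i = ρ p := congrArg Subtype.val hi
    rw [map_mul, map_inv, map_zpow, hi', mul_inv_cancel]
  set C : Subgroup G := zpowers (p0 : G) with hC
  have hCle : C ≤ P := zpowers_le.2 p0.2
  have hsplit : ∀ p ∈ P, p ∈ C ∨ u * p ∈ C := fun p hp => by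
    obtain ⟨i, hi⟩ := hrep ⟨p, hp⟩
    have hi' := (hker _).1 hi
    simp only [Subgroup.coe_mul, InvMemClass.coe_inv, SubgroupClass.coe_zpow] at hi'
    rcases hi' with e | e
    · exact Or.inl (by rw [mul_inv_eq_one.1 e]; exact zpow_mem (mem_zpowers _) i)
    · refine Or.inr ?_
      rw [mul_inv_eq_iff_eq_mul.1 e, ← mul_assoc, B.uu, one_mul]
      exact zpow_mem (mem_zpowers _) i
  -- the order of the generator
  obtain ⟨k, hk⟩ := B.P_two p0
  obtain ⟨j, -, hj⟩ := (Nat.dvd_prime_pow Nat.prime_two).1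
    (orderOf_dvd_of_pow_eq_one (show ρ p0 ^ 2 ^ k = 1 by rw [← map_pow, hk, map_one]))
  have hj0 : j ≠ 0 := fun e => by
    rw [e, pow_zero, orderOf_eq_one_iff] at hj
    have hall : ∀ p : P, (p : G) = 1 ∨ (p : G) = u := fun p => (hker p).1 (by
      obtain ⟨i, hi⟩ := hrep p
      rwa [map_mul, map_inv, map_zpow, hj, one_zpow, inv_one, mul_one] at hi)
    have h4 := B.cfg.four_le
    rw [← SetLike.coe_sort_coe, Nat.card_coe_set_eq] at h4
    have h2 := (Set.ncard_le_ncard (show (P : Set G) ⊆ {1, u} from fun p hp => hall ⟨p, hp⟩)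
      (Set.toFinite _)).trans (Set.ncard_insert_le _ _)
    rw [Set.ncard_singleton] at h2
    omega
  obtain ⟨j, rfl⟩ := Nat.exists_eq_succ_of_ne_zero hj0
  set z : G := (p0 : G) ^ 2 ^ j with hzdef
  have hzP : z ∈ P := pow_mem p0.2 _
  have hρz : ρ ⟨z, hzP⟩ ≠ 1 := fun e => by
    have h1 : ρ p0 ^ 2 ^ j = 1 := by rw [← map_pow]; exact e
    have h2 := orderOf_dvd_of_pow_eq_one h1
    rw [hj] at h2
    exact absurd ((Nat.pow_dvd_pow_iff_le_right one_lt_two).1 h2) (by omega)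
  have hzne : z ≠ 1 ∧ z ≠ u := not_or.1 fun e => hρz ((hker _).2 e)
  have hz2 : z * z = 1 := by
    have h1 : ρ (⟨z, hzP⟩ * ⟨z, hzP⟩) = 1 := by
      rw [map_mul, show (⟨z, hzP⟩ : P) = p0 ^ 2 ^ j from rfl, map_pow, ← pow_add, ← two_mul, ← pow_succ', ← hj,
        pow_orderOf_eq_one]
    exact ((hker _).1 h1).resolve_right (hnosq z hzP)
  have hp0ord : (p0 : G) ^ 2 ^ (j + 1) = 1 := by rw [pow_succ, pow_mul, pow_two, ← hzdef, hz2]
  have huC : u ∉ C := fun hu' => by
    obtain ⟨i, hi⟩ := mem_zpowers_iff.1 hu'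
    have h1 : ρ p0 ^ i = 1 := by
      rw [← map_zpow]
      exact (hker _).2 (Or.inr (by rw [SubgroupClass.coe_zpow]; exact hi))
    obtain ⟨l, rfl⟩ := hj ▸ orderOf_dvd_iff_zpow_eq_one.2 h1
    rw [zpow_mul, zpow_natCast, hp0ord, one_zpow] at hi
    exact Invol.ne_one B.cfg.hu hi.symm
  have hch := hchord hzP (Or.inl hz2) hzne.1 hzne.2
  refine ⟨z, C, hzP, Invol.order_two_of_sq hz2 hzne.1, hzne.2, hch.cen_E, hch.cen_eq, hch.inv, hch.card_phi.le,
    fun p hp hpE => ?_, hCle, isCyclic_zpowers _, huC, pow_mem (mem_zpowers _) _, hsplit⟩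
  -- an element centralising `E`
  have hsq : φ ⟨p, hp⟩ * φ ⟨p, hp⟩ ∈ fixCen Q := by
    refine B.unitaryType.sq_of_fix _ (fun e he => Subtype.ext ?_) ?_
    · show p * (e : G) * p⁻¹ = e
      rw [(hpE _ (B.mem_center.1 he)).eq, mul_inv_cancel_right]
    · obtain ⟨i, hi⟩ := B.P_two ⟨p, hp⟩
      exact ⟨i, by rw [← map_pow, hi, map_one]; exact one_mem _⟩
  have hsq' : ρ ⟨p, hp⟩ * ρ ⟨p, hp⟩ = 1 := by
    rw [← map_mul, show ρ (⟨p, hp⟩ * ⟨p, hp⟩) = ((φ (⟨p, hp⟩ * ⟨p, hp⟩) : MulAut Q) : MulAut Q ⧸ fixCen Q) from rfl,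
      QuotientGroup.eq_one_iff, map_mul]
    exact hsq
  have hpp : p * p = 1 := ((hker _).1 (by rw [map_mul]; exact hsq')).resolve_right (hnosq p hp)
  obtain ⟨c, hc, hcp⟩ : ∃ c ∈ C, p = c ∨ p = u * c := by
    rcases hsplit p hp with h1 | h1
    · exact ⟨p, h1, Or.inl rfl⟩
    · exact ⟨u * p, h1, Or.inr (by rw [← mul_assoc, B.uu, one_mul])⟩
  have hcc : c * c = 1 := by
    rcases hcp with rfl | rfl
    · exact hpp
    · rw [← hpp, (hPu (hCle hc)).mul_mul_mul_comm, B.uu, one_mul]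
  obtain ⟨i, rfl⟩ := mem_zpowers_iff.1 hc
  have h1 : ρ p0 ^ (i * 2) = 1 := by
    rw [← map_zpow]
    exact (hker _).2 (Or.inl (by rw [SubgroupClass.coe_zpow, zpow_mul, zpow_two, hcc]))
  have h2 := hj ▸ orderOf_dvd_iff_zpow_eq_one.2 h1
  rw [pow_succ, Nat.cast_mul, Nat.cast_ofNat, Int.mul_dvd_mul_iff_right (by norm_num)] at h2
  obtain ⟨l, rfl⟩ := h2
  have hcz : (p0 : G) ^ (((2 ^ j : ℕ) : ℤ) * l) = 1 ∨ (p0 : G) ^ (((2 ^ j : ℕ) : ℤ) * l) = z := by
    rw [zpow_mul, zpow_natCast, ← hzdef]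
    rcases Int.even_or_odd l with ⟨s, rfl⟩ | ⟨s, rfl⟩
    · left; rw [← two_mul, zpow_mul, zpow_two, hz2, one_zpow]
    · right; rw [zpow_add, zpow_mul, zpow_two, hz2, one_zpow, one_mul, zpow_one]
  rcases hcp with e | e <;> rcases hcz with e' | e' <;> rw [e, e']
  · exact Or.inl rfl
  · exact Or.inr (Or.inr (Or.inl rfl))
  · exact Or.inr (Or.inl (mul_one u))
  · exact Or.inr (Or.inr (Or.inr rfl))

end LargeBase

end Cfsg.Agent.GoodInvol
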