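import Cfsg.Agent.Lib.GoodInvol.CaseBLarge.Pieces
import Cfsg.Agent.Lib.GoodInvol.CaseBLarge.Twist
import Cfsg.Agent.Lib.GoodInvol.CaseBLarge.Sylow
import Cfsg.Agent.Lib.GoodInvol.CaseBL2.SylowOrbit

/-!
# A large 2-group on two points: the flat part of the Sylow subgroup

`⟨u⟩ Q` is invariant in the Sylow subgroup over `T`: an element outside it centralising `u` and `E` with square in `E`
is an involution. The image on `Q` modulo the centre is too small to hold the translations of `u`, so the flat part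
moves `u`; the torus then makes it transitive on `u E`.
-/

set_option autoImplicit false
set_option linter.style.haveILetI false
set_option linter.unusedSectionVars false

namespace Cfsg.Agent.GoodInvol

open Subgroup MulAction

universe u

variable {G : Type u} [Group G] [Finite G] {Ω : Type u} [MulAction G Ω] [Finite Ω] [FaithfulSMul G Ω] {D : Set G}

namespace LargeBase

variable {u : G} {a x : Ω} {T : Sylow 2 (ptC u a)} {E P Q K K1 : Subgroup G} {r : ℕ}
  (B : LargeBase D u a x T E P Q K K1 r)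
include B

theorem sq_half {t : G} (ht : t ∈ half Q u) : t * t ∈ E ∧ (t * t = 1 → t ∈ half E u) := by
  rcases ht with h | h
  · exact ⟨B.loc.sq t h, fun e => Or.inl (B.loc.mem_eset t h e)⟩
  · have e : u * t * (u * t) = t * t := by
      rw [(B.mem_u (B.half_le_T (Or.inr h))).mul_mul_mul_comm, B.uu, one_mul]
    exact ⟨e ▸ B.loc.sq _ h, fun e' => Or.inr (B.loc.mem_eset _ h (e.trans e'))⟩

theorem cen_half_E {t : G} (ht : t ∈ half Q u) {e : G} (he : e ∈ E) : Commute t e := by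
  rcases ht with h | h
  · exact (B.loc.cen e he t h).symm
  · have h1 := (B.u_comm_E he).mul_left (B.loc.cen e he _ h).symm
    rwa [← mul_assoc, B.uu, one_mul] at h1

theorem half_mono {g : G} (hg : g ∈ half E u) : g ∈ half Q u :=
  hg.imp (fun h => B.loc.eset_le h) fun h => B.loc.eset_le h

/-- Elements normalising `E` and `u E` keep `⟨u⟩ E`. -/
theorem conj_half_E {g : G} (hg : g ∈ cosetNorm E u) {t : G} (ht : t ∈ half E u) : g * t * g⁻¹ ∈ half E u := by
  rcases ht with h | h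
  · exact Or.inl ((hg.1 t).2 h)
  · refine Or.inr ?_
    obtain ⟨f, hf, hgf⟩ := B.exists_val hg
    rw [show u * (g * t * g⁻¹) = u * (g * (u * (u * t)) * g⁻¹) by rw [← mul_assoc u u, B.uu, one_mul],
      show g * (u * (u * t)) * g⁻¹ = g * u * g⁻¹ * (g * (u * t) * g⁻¹) by group, hgf, mul_assoc u f,
      ← mul_assoc u u, B.uu, one_mul]
    exact mul_mem hf ((hg.1 _).2 h)

variable {z : G} {C : Subgroup G} (W : TwistCfg u z E P Q C r) {S : Sylow 2 G} (hS : SylCfg u a (tSub T) E S r)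
include W hS

/-- The Sylow subgroup keeps `⟨u⟩ Q`. -/
theorem half_conj_S {s : G} (hs : s ∈ (S : Subgroup G)) {t : G} (ht : t ∈ half Q u) :
    s * t * s⁻¹ ∈ half Q u := by
  by_contra hout
  have hsN : s ∈ cosetNorm E u := (hS.S_le hs).1
  have htT := B.half_le_T ht
  set t' := s * t * s⁻¹ with ht'
  have ht'S : t' ∈ (S : Subgroup G) := mul_mem (mul_mem hs (hS.T_le htT)) (inv_mem hs)
  have hcE : ∀ e ∈ E, Commute t' e := fun e he => by
    have h1 : s⁻¹ * e * s ∈ E := by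
      have := ((inv_mem hsN).1 e).2 he
      rwa [inv_inv] at this
    have h2 : Commute t' (s * (s⁻¹ * e * s) * s⁻¹) := (B.cen_half_E ht h1).map (MulAut.conj s).toMonoidHom
    rwa [show s * (s⁻¹ * e * s) * s⁻¹ = e by group] at h2
  have hcu : Commute t' u := by
    obtain ⟨f, hf, hsf⟩ := B.exists_val hsN
    have h1 : Commute t' (s * u * s⁻¹) := (B.mem_u htT).map (MulAut.conj s).toMonoidHom
    rw [hsf] at h1
    have h2 := h1.mul_right (hcE f hf)
    rwa [mul_assoc, B.cfg.hE.sq f hf, mul_one] at h2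
  have ht'T : t' ∈ tSub T := B.mem_T_of_two S.2 hS.T_le ht'S (B.S_fix hS ht'S) hcu
  obtain ⟨y, hy, p, hp, hyp⟩ := B.split_T ht'T
  have hpE : ∀ e ∈ E, Commute p e := fun e he => by
    have h1 := (B.loc.cen e he y hy).symm.inv_left.mul_left (hcE e he)
    rwa [hyp, inv_mul_cancel_left] at h1
  -- so `t'` is `y` or `y z`, up to `u`
  have hsq := B.sq_half ht
  have ht'2 : t' * t' = s * (t * t) * s⁻¹ := by rw [ht']; group
  have key : ∀ w : G, w = y * z → w * w = t' * t' → False := by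
    rintro w rfl hw
    have hzu : y * z * (y * z) = y * (z * y * z⁻¹) := by
      have h1 : z⁻¹ = z := Invol.inv_self W.z_ord
      rw [h1]; group
    have hmem : y * (z * y * z⁻¹) ∈ E := by
      rw [← hzu, hw, ht'2]
      exact (hsN.1 _).2 hsq.1
    have hcl : y⁻¹ * (z * y * z⁻¹) ∈ E := by
      rw [show y⁻¹ * (z * y * z⁻¹) = (y * y)⁻¹ * (y * (z * y * z⁻¹)) by group]
      exact mul_mem (inv_mem (B.loc.sq y hy)) hmem
    rw [hzu, W.inv_z y hy hcl, mul_inv_cancel, ht'2, eq_comm, conj_eq_one_iff] at hw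
    exact hout (B.half_mono (B.conj_half_E hsN (hsq.2 hw)))
  rcases W.cenE_P p hp hpE with rfl | rfl | rfl | rfl
  · rw [mul_one] at hyp
    exact hout (hyp ▸ Or.inl hy)
  · refine hout (Or.inr ?_)
    rw [hyp, (B.Q_commute_u hy).eq, ← mul_assoc, B.uu, one_mul]
    exact hy
  · exact key t' hyp rfl
  · refine key (y * z) rfl ?_
    have h1 : t' = u * (y * z) := by rw [hyp, ← mul_assoc, ← mul_assoc, (B.Q_commute_u hy).eq]
    have hzy : Commute (y * z) u :=
      (B.Q_commute_u hy).mul_left (B.mem_u (B.cfg.P_le W.z_mem))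
    rw [h1, hzy.mul_mul_mul_comm, B.uu, one_mul]

theorem S_le_nSub : (S : Subgroup G) ≤ nSub u a E Q := fun s hs => by
  refine ⟨hS.S_le hs, Subgroup.mem_set_normalizer_iff.2 fun t => ⟨B.half_conj_S W hS hs, fun ht => ?_⟩⟩
  have h1 := B.half_conj_S W hS (inv_mem hs) ht
  rwa [inv_inv, show s⁻¹ * (s * t * s⁻¹) * s = t by group] at h1

omit W hS in
theorem K_le_nSub : K ≤ nSub u a E Q := fun k hk => by
  have hku := B.loc.K_commute_u hk
  refine ⟨⟨mem_cosetNorm_of_conj (B.loc.K_normE k (mem_sup_left hk))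
    (by rw [hku.eq, mul_inv_cancel_right, inv_mul_cancel]; exact one_mem E),
    mem_stabilizer_iff.2 (B.loc.K_fix k hk).1⟩, Subgroup.mem_set_normalizer_iff.2 fun t => ?_⟩
  have e : u * (k * t * k⁻¹) = k * (u * t) * k⁻¹ := by rw [← mul_assoc, ← mul_assoc, ← hku.eq, mul_assoc k u]
  exact or_congr (B.loc.K_normQ k (mem_sup_left hk) t).symm
    (e ▸ B.loc.K_normQ k (mem_sup_left hk) (u * t)).symm

omit hS in
theorem cenE_flat {g : G} (hg : g ∈ B.flat) {e : G} (he : e ∈ E) : Commute g e := by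
  obtain ⟨⟨g', hg'⟩, hk, rfl⟩ := hg
  have h1 : B.qAut hg' ∈ fixCen Q := (QuotientGroup.eq_one_iff _).1 hk
  have h2 := congrArg Subtype.val (B.unitaryType.cen_fix _ (mul_mem h1 h1) ⟨e, B.loc.eset_le he⟩ (B.mem_center.2 he))
  rw [B.qAut_E hg' he] at h2
  exact mul_inv_eq_iff_eq_mul.1 h2

theorem half_le_flat {t : G} (ht : t ∈ half Q u) : t ∈ B.flat := by
  refine B.mem_flat.2 ⟨B.S_le_nSub W hS (hS.T_le (B.half_le_T ht)), fun y hy => Or.inl ?_⟩
  rcases ht with h | h
  · rw [← mul_assoc, ← mul_assoc]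
    have := B.loc.comm _ (inv_mem hy) t h
    rwa [inv_inv] at this
  · have hc := B.loc.comm _ (inv_mem hy) _ h
    rw [inv_inv] at hc
    have e : y⁻¹ * (t * y * t⁻¹) = y⁻¹ * (u * t) * y * (u * t)⁻¹ := by
      have hyu : Commute u (t * y * t⁻¹) :=
        (((B.mem_u (B.half_le_T (Or.inr h))).symm.mul_right (B.Q_commute_u hy).symm)).mul_right
          (B.mem_u (B.half_le_T (Or.inr h))).symm.inv_right
      rw [show y⁻¹ * (u * t) * y * (u * t)⁻¹ = y⁻¹ * (u * (t * y * t⁻¹) * u⁻¹) by group, hyu.eq, mul_inv_cancel_right]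
    exact e ▸ hc

theorem flat_inf_T {t : G} (ht : t ∈ tSub T) (htf : t ∈ B.flat) : t ∈ half Q u := by
  obtain ⟨y, hy, p, hp, rfl⟩ := B.split_T ht
  have hpf : p ∈ B.flat := by
    have h1 := mul_mem (inv_mem (B.half_le_flat W hS (Or.inl hy))) htf
    rwa [inv_mul_cancel_left] at h1
  have hpQ : p ∈ normalizer (Q : Set G) := B.T_le_normQ (B.cfg.P_le hp)
  have h2 := B.fix_of_trivial (B.mem_u (B.cfg.P_le hp)) (B.mem_a (B.cfg.P_le hp)) (B.cfg.P_fix p hp) hpQ
    fun w hw => (B.half_E (mul_mem (inv_mem hw) ((mem_normalizer_iff.1 hpQ w).1 hw))).1 ((B.mem_flat.1 hpf).2 w hw)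
  rcases B.cfg.hW p ⟨B.cfg.P_le hp, h2⟩ with rfl | rfl
  · exact Or.inl (by rwa [mul_one])
  · exact Or.inr (by rw [(B.Q_commute_u hy).eq, ← mul_assoc, B.uu, one_mul]; exact hy)

/-- Some flat element of the Sylow subgroup moves `u`. -/
theorem exists_flat_moved : ∃ s ∈ (S : Subgroup G), s ∈ B.flat ∧ ¬ Commute s u := by
  classical
  haveI : Fact (Nat.Prime 2) := ⟨Nat.prime_two⟩
  by_contra! hall
  let f : (S : Subgroup G) →* MulAut Q ⧸ fixCen Q := B.qHom.comp (Subgroup.inclusion (B.S_le_nSub W hS))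
  obtain ⟨-, hr⟩ := B.unitaryType.two_group f.range (S.2.of_surjective f.rangeRestrict f.rangeRestrict_surjective)
  have hker : Nat.card f.ker ≤ 2 * Nat.card Q := by
    have hsub : ∀ s : f.ker, ((s : (S : Subgroup G)) : G) ∈ (Q : Set G) ∪ (fun y => u * y) '' Q := by
      rintro ⟨⟨s, hs⟩, hk⟩
      have hsf : s ∈ B.flat := ⟨⟨s, B.S_le_nSub W hS hs⟩, hk, rfl⟩
      rcases B.flat_inf_T W hS (B.mem_T_of_two S.2 hS.T_le hs (B.S_fix hS hs) (hall s hs hsf)) hsf with h | h
      · exact Or.inl h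
      · exact Or.inr ⟨u * s, h, by show u * (u * s) = s; rw [← mul_assoc, B.uu, one_mul]⟩
    have h1 : Nat.card f.ker ≤ Nat.card ↥((Q : Set G) ∪ (fun y => u * y) '' Q) :=
      Nat.card_le_card_of_injective (fun s => ⟨_, hsub s⟩) fun s t e =>
        Subtype.ext (Subtype.ext (congrArg Subtype.val e :))
    refine h1.trans (le_of_eq_of_le (Nat.card_coe_set_eq _) ((Set.ncard_union_le _ _).trans ?_))
    have h2 : ((fun y => u * y) '' (Q : Set G)).ncard = (Q : Set G).ncard :=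
      Set.ncard_image_of_injective _ (mul_right_injective u)
    rw [h2, two_mul, ← Nat.card_coe_set_eq]
    rfl
  have hcard := f.ker.card_mul_index
  rw [Subgroup.index_ker, hS.card, B.card_T] at hcard
  have h4 := B.cfg.four_le
  set q := 2 ^ r with hq
  have hle : q * (q * q * q * Nat.card P) ≤ 2 * Nat.card Q * (2 * r) := hcard ▸ Nat.mul_le_mul hker hr
  rw [B.card_Q, ← hq] at hle
  have h5 : q * (q * q * q * 4) ≤ 2 * (q * q * q) * (2 * r) :=
    le_trans (Nat.mul_le_mul_left _ (Nat.mul_le_mul_left _ h4)) hle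
  have h6 : q ≤ r := Nat.le_of_mul_le_mul_right
    (le_of_eq_of_le (by ring) (h5.trans (le_of_eq (by ring))) : q * (4 * (q * q * q)) ≤ r * (4 * (q * q * q)))
    (by positivity)
  exact absurd h6 (not_le.2 Nat.lt_two_pow_self)

/-- The flat part of the Sylow subgroup. -/
theorem flatCfg : FlatCfg B (S : Subgroup G) := by
  classical
  refine ⟨B.S_le_nSub W hS, fun g hg e he => B.cenE_flat W hg he, fun t ht => B.half_le_flat W hS ht,
    fun t ht htf => B.flat_inf_T W hS ht htf, ?_⟩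
  obtain ⟨s0, hs0, hs0f, hs0u⟩ := B.exists_flat_moved W hS
  obtain ⟨f0, hf0, hsf0⟩ := B.exists_val_S hS hs0
  have hf01 : f0 ≠ 1 := fun e => hs0u (mul_inv_eq_iff_eq_mul.1 (by rw [hsf0, e, mul_one]))
  have hA : SixInv.orb (nSub u a E Q ⊓ B.flat) u = (fun f => u * f) '' (E : Set G) := by
    ext v
    constructor
    · rintro ⟨g, hg, rfl⟩
      obtain ⟨f, hf, hgf⟩ := B.exists_val hg.1.1.1
      exact ⟨f, hf, hgf.symm⟩
    · rintro ⟨f, hf, rfl⟩
      by_cases hf1 : f = 1
      · exact ⟨1, one_mem _, by simp [hf1]⟩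
      obtain ⟨k, hk, hkf⟩ := B.loc.K_trans f0 hf0 f hf hf01 hf1
      have hkn := B.K_le_nSub hk
      have hg := B.flat_conj hkn hs0f
      refine ⟨k * s0 * k⁻¹, ⟨B.flat_le hg, hg⟩, ?_⟩
      have hku := B.loc.K_commute_u hk
      show k * s0 * k⁻¹ * u * (k * s0 * k⁻¹)⁻¹ = u * f
      calc k * s0 * k⁻¹ * u * (k * s0 * k⁻¹)⁻¹ = k * (s0 * (k⁻¹ * u * k) * s0⁻¹) * k⁻¹ := by group
        _ = k * (u * f0) * k⁻¹ := by rw [hku.inv_left.eq, inv_mul_cancel_right, hsf0]
        _ = (k * u * k⁻¹) * (k * f0 * k⁻¹) := by group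
        _ = u * f := by rw [hku.eq, mul_inv_cancel_right, hkf]
  intro f hf
  obtain ⟨s, hs, hsu⟩ := exists_conj_of_sylow (S.subtype (B.S_le_nSub W hS)) (C := B.flat)
    (fun g hg v hv => B.flat_conj hg hv) hA (r := r)
    (by rw [Set.ncard_image_of_injective _ (mul_right_injective u), ← Nat.card_coe_set_eq]; exact B.loc.card_eset)
    (z := u * f) ⟨f, hf, rfl⟩
  obtain ⟨⟨s', hs', e⟩, hsf⟩ := hs
  exact ⟨s, e ▸ hs', hsf, hsu⟩

end LargeBase

end Cfsg.Agent.GoodInvol
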