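import Cfsg.Agent.Lib.GoodInvol.CaseBLarge.Proj

/-!
# A large 2-group on two points: the pieces

`SylCfg`: a Sylow subgroup `S` over `T`, transitive on `u E`. `FlatCfg`: its elements acting trivially modulo `⟨u⟩ E`
are still transitive. `WCfg`: those centralising `Q`, with the torus lifted. `VecCfg`: an abelian half of them.
-/

set_option autoImplicit false
set_option linter.style.haveILetI false
set_option linter.unusedSectionVars false

namespace Cfsg.Agent.GoodInvol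

open Subgroup MulAction

universe u

variable {G : Type u} [Group G] [Finite G] {Ω : Type u} [MulAction G Ω] [Finite Ω] [FaithfulSMul G Ω]

/-- The Sylow subgroup over `T`. -/
structure SylCfg (u : G) (a : Ω) (T E : Subgroup G) (S : Sylow 2 G) (r : ℕ) : Prop where
  T_le : T ≤ S
  S_le : (S : Subgroup G) ≤ cosetNorm E u ⊓ stabilizer G a
  trans : ∀ f ∈ E, ∃ s ∈ (S : Subgroup G), s * u * s⁻¹ = u * f
  card : Nat.card (S : Subgroup G) = 2 ^ r * Nat.card T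

/-- The flat part of the Sylow subgroup. -/
structure FlatCfg {D : Set G} {u : G} {a x : Ω} {T : Sylow 2 (ptC u a)} {E P Q K K1 : Subgroup G} {r : ℕ}
    (B : LargeBase D u a x T E P Q K K1 r) (S : Subgroup G) : Prop where
  S_le_n : S ≤ nSub u a E Q
  cenE : ∀ g ∈ B.flat, ∀ e ∈ E, Commute g e
  half_flat : ∀ t ∈ half Q u, t ∈ B.flat
  flat_T : ∀ t ∈ tSub T, t ∈ B.flat → t ∈ half Q u
  trans : ∀ f ∈ E, ∃ s ∈ S, s ∈ B.flat ∧ s * u * s⁻¹ = u * f

/-- The part centralising `Q`, with the torus lifted. -/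
structure WCfg (u : G) (E Q K S W : Subgroup G) : Prop where
  W_le : W ≤ S
  norm : ∀ s ∈ S, ∀ w ∈ W, s * w * s⁻¹ ∈ W
  cenQ : ∀ w ∈ W, ∀ y ∈ Q, Commute w y
  sq : ∀ w ∈ W, w * w ∈ E
  inT : ∀ w ∈ W, Commute w u → w ∈ half E u
  u_mem : u ∈ W
  E_le : E ≤ W
  trans : ∀ f ∈ E, ∃ w ∈ W, w * u * w⁻¹ = u * f
  lift : ∀ k ∈ K, ∃ n ∈ normalizer (W : Set G), Commute n u ∧ ∀ e ∈ E, n * e * n⁻¹ = k * e * k⁻¹

/-- The abelian half. -/
structure VecCfg (u : G) (E Q C S W1 : Subgroup G) (r : ℕ) : Prop where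
  W1_le : W1 ≤ S
  comm : ∀ w ∈ W1, ∀ w' ∈ W1, Commute w w'
  cenQ : ∀ w ∈ W1, ∀ y ∈ Q, Commute w y
  sq : ∀ w ∈ W1, w * w ∈ E
  E_le : E ≤ W1
  inT : ∀ w ∈ W1, Commute w u → w ∈ E
  card : Nat.card W1 = 2 ^ r * 2 ^ r
  norm : ∀ p ∈ C, ∀ w ∈ W1, p * w * p⁻¹ ∈ W1
  cover : ∀ s ∈ S, ∃ w ∈ W1, ∃ y ∈ Q, ∃ p ∈ C, s = w * y * p ∨ s = u * (w * y * p)

variable {D : Set G}

namespace LargeBase

variable {u : G} {a x : Ω} {T : Sylow 2 (ptC u a)} {E P Q K K1 : Subgroup G} {r : ℕ}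
  (B : LargeBase D u a x T E P Q K K1 r)
include B

theorem exists_val_S {S : Sylow 2 G} (hS : SylCfg u a (tSub T) E S r) {s : G} (hs : s ∈ (S : Subgroup G)) :
    ∃ f ∈ E, s * u * s⁻¹ = u * f :=
  B.exists_val (hS.S_le hs).1

/-- An element of the Sylow subgroup commuting with `u` is in `T` if that subgroup is a 2-group at `a` over `T`. -/
theorem S_fix {S : Sylow 2 G} (hS : SylCfg u a (tSub T) E S r) {s : G} (hs : s ∈ (S : Subgroup G)) : s • a = a :=
  mem_stabilizer_iff.1 (hS.S_le hs).2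

end LargeBase

end Cfsg.Agent.GoodInvol
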