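import Cfsg.Agent.Lib.GoodInvol.CaseBLarge.Sylow
import Cfsg.Agent.Lib.GoodInvol.CaseBLarge.Pieces
import Cfsg.Agent.Lib.GoodInvol.CaseBLarge.Twist
import Cfsg.Agent.Lib.Transfer.Basic

/-!
# A large 2-group on two points: the part centralising `Q`

A flat element normalises `Q`, the part it keeps inside being invariant under the torus part centralising `E`, and
acts on it as an inner automorphism. So the flat elements centralising `Q` are still transitive on `u E`; a Frattini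
argument lifts the torus to their normaliser.
-/

set_option autoImplicit false
set_option linter.style.haveILetI false
set_option linter.unusedSectionVars false

namespace Cfsg.Agent.GoodInvol

open Subgroup MulAction

universe u

variable {G : Type u} [Group G] [Finite G] {Ω : Type u} [MulAction G Ω] [Finite Ω] [FaithfulSMul G Ω] {D : Set G}

namespace LargeBase

variable {u : G} {a x : Ω} {T : Sylow 2 (ptC u a)} {E P Q K K1 : Subgroup G} {r : ℕ}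
  (B : LargeBase D u a x T E P Q K K1 r)
include B

/-- Modulo `E` every element of `Q` is a commutator with an element of the torus without fixed classes. -/
theorem exists_comm_torus {k : G} (hk : k ∈ K1) (hfpf : ∀ y ∈ Q, k * y * k⁻¹ * y⁻¹ ∈ E → y ∈ E) {y : G}
    (hy : y ∈ Q) : ∃ c ∈ Q, y⁻¹ * (k * c * k⁻¹ * c⁻¹) ∈ E := by
  classical
  set Z := Subgroup.center Q with hZ
  have hQk : ∀ c : Q, k * (c : G) * k⁻¹ ∈ Q := fun c => (B.loc.K_normQ k (mem_sup_right hk) c).2 c.2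
  have hcomm : ∀ a b : Q ⧸ Z, a * b = b * a := by
    intro a b
    induction a using QuotientGroup.induction_on with
    | H a =>
      induction b using QuotientGroup.induction_on with
      | H b =>
        rw [← QuotientGroup.mk_mul, ← QuotientGroup.mk_mul, QuotientGroup.eq, B.mem_center]
        simp only [Subgroup.coe_mul, Subgroup.coe_inv]
        rw [show ((a : G) * b)⁻¹ * (b * a) = (b : G)⁻¹ * (a : G)⁻¹ * (b : G)⁻¹⁻¹ * (a : G)⁻¹⁻¹ by group]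
        exact B.loc.comm _ (inv_mem b.2) _ (inv_mem a.2)
  let f : Q →* Q ⧸ Z := MonoidHom.mk' (fun c => QuotientGroup.mk ⟨k * (c : G) * k⁻¹, hQk c⟩ * (QuotientGroup.mk c)⁻¹)
    fun c c' => by
      have e : (⟨k * ((c * c' : Q) : G) * k⁻¹, hQk (c * c')⟩ : Q) = ⟨k * (c : G) * k⁻¹, hQk c⟩ * ⟨k * (c' : G) * k⁻¹, hQk c'⟩ :=
        Subtype.ext (by simp only [Subgroup.coe_mul]; group)
      have key : ∀ A B C F : Q ⧸ Z, A * B * (F * C) = A * C * (B * F) := fun A B C F => by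
        rw [hcomm F C, mul_assoc, ← mul_assoc B C F, hcomm B C, mul_assoc C B F, ← mul_assoc A C]
      rw [e, QuotientGroup.mk_mul, QuotientGroup.mk_mul, mul_inv_rev]
      exact key _ _ _ _
  have hfval : ∀ c : Q, ∀ d : Q, f c = QuotientGroup.mk d ↔ (d : G)⁻¹ * (k * c * k⁻¹ * (c : G)⁻¹) ∈ E := fun c d => by
    rw [show f c = (QuotientGroup.mk (⟨k * (c : G) * k⁻¹, hQk c⟩ : Q) : Q ⧸ Z) * (QuotientGroup.mk c)⁻¹ from rfl]
    rw [← QuotientGroup.mk_inv, ← QuotientGroup.mk_mul, eq_comm, QuotientGroup.eq, B.mem_center]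
    simp only [Subgroup.coe_mul, Subgroup.coe_inv]
  have hker : f.ker = Z := by
    ext c
    rw [MonoidHom.mem_ker, ← QuotientGroup.mk_one, hfval, OneMemClass.coe_one, inv_one, one_mul, hZ, B.mem_center]
    refine ⟨hfpf c c.2, fun hc => ?_⟩
    rw [(B.loc.K1_eset k hk c hc).eq, mul_inv_cancel_right, mul_inv_cancel]
    exact one_mem E
  have hsurj : f.range = ⊤ := by
    refine Subgroup.eq_top_of_card_eq _ ?_
    rw [← Subgroup.index_ker, hker, ← Subgroup.index_eq_card]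
  obtain ⟨c, hc⟩ := (MonoidHom.range_eq_top.1 hsurj) (QuotientGroup.mk ⟨y, hy⟩)
  exact ⟨c, c.2, (hfval c ⟨y, hy⟩).1 hc⟩

theorem K_le_n {k : G} (hk : k ∈ K ⊔ K1) : k ∈ nSub u a E Q := by
  have hku : Commute k u := commute_of_genC (sup_le B.loc.K_le B.loc.K1_le hk)
  have hka : k ∈ stabilizer G a := (sup_le (fun g hg => mem_stabilizer_iff.2 (B.loc.K_fix g hg).1)
    (fun g hg => mem_stabilizer_iff.2 (B.loc.K1_fix g hg).1) : K ⊔ K1 ≤ stabilizer G a) hk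
  refine ⟨⟨mem_cosetNorm_of_conj (B.loc.K_normE k hk) ?_, hka⟩, Subgroup.mem_set_normalizer_iff.2 fun t => ?_⟩
  · rw [hku.eq, mul_inv_cancel_right, inv_mul_cancel]; exact one_mem E
  · have e : u * (k * t * k⁻¹) = k * (u * t) * k⁻¹ := by rw [← mul_assoc, ← mul_assoc, ← hku.eq]; group
    show t ∈ Q ∨ u * t ∈ Q ↔ k * t * k⁻¹ ∈ Q ∨ u * (k * t * k⁻¹) ∈ Q
    rw [e, B.loc.K_normQ k hk, B.loc.K_normQ k hk]

theorem conj_Q_of_commute {g : G} (hg : g ∈ nSub u a E Q) (hgu : Commute g u) {y : G} (hy : y ∈ Q) :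
    g * y * g⁻¹ ∈ Q :=
  B.mem_Q_of_half (B.conj_half hg (B.half_Q hy)) (B.crit.conj_genC hgu (B.loc.Q_gen hy))

variable {S : Sylow 2 G} (hS : SylCfg u a (tSub T) E S r) (hF : FlatCfg B (S : Subgroup G))
include hS hF

/-- A conjugate of a flat element under the torus part centralising `E` differs by one commuting with `u`. -/
theorem flat_diff {k : G} (hk : k ∈ K1) {g : G} (hg : g ∈ B.flat) :
    g⁻¹ * (k * g * k⁻¹) ∈ B.flat ∧ Commute (g⁻¹ * (k * g * k⁻¹)) u := by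
  refine ⟨mul_mem (inv_mem hg) (B.flat_conj (B.K_le_n (mem_sup_right hk)) hg), ?_⟩
  have hku : Commute k u := commute_of_genC (B.loc.K1_le hk)
  obtain ⟨f, hf, hgf⟩ := B.exists_val (B.flat_le hg).1.1
  have hkf : Commute k (u * f) := hku.mul_right (B.loc.K1_eset k hk f hf)
  refine mul_inv_eq_iff_eq_mul.1 ?_
  calc g⁻¹ * (k * g * k⁻¹) * u * (g⁻¹ * (k * g * k⁻¹))⁻¹
      = g⁻¹ * (k * (g * (k⁻¹ * u * k) * g⁻¹) * k⁻¹) * g := by group
    _ = g⁻¹ * (k * (u * f) * k⁻¹) * g := by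
      rw [show k⁻¹ * u * k = u by rw [mul_assoc, ← hku.eq, inv_mul_cancel_left], hgf]
    _ = g⁻¹ * (g * u * g⁻¹) * g := by rw [hkf.eq, mul_inv_cancel_right, hgf]
    _ = u := by group

/-- A flat element normalises `Q`. -/
theorem flat_conj_Q {g : G} (hg : g ∈ B.flat) {y : G} (hy : y ∈ Q) : g * y * g⁻¹ ∈ Q := by
  classical
  obtain ⟨k, hk, hfpf⟩ := B.exists_torus1
  have hgn := B.flat_le hg
  let A : Subgroup G :=
    { carrier := {y | y ∈ Q ∧ g * y * g⁻¹ ∈ Q}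
      one_mem' := ⟨one_mem Q, by rw [mul_one, mul_inv_cancel]; exact one_mem Q⟩
      mul_mem' := fun {v w} hv hw => ⟨mul_mem hv.1 hw.1, by
        rw [show g * (v * w) * g⁻¹ = g * v * g⁻¹ * (g * w * g⁻¹) by group]; exact mul_mem hv.2 hw.2⟩
      inv_mem' := fun {v} hv => ⟨inv_mem hv.1, by
        rw [show g * v⁻¹ * g⁻¹ = (g * v * g⁻¹)⁻¹ by group]; exact inv_mem hv.2⟩ }
  have hEA : ∀ e ∈ E, e ∈ A := fun e he => ⟨B.loc.eset_le he, B.loc.eset_le (B.conj_E_n hgn he)⟩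
  have hout : ∀ v ∈ Q, g * v * g⁻¹ ∉ Q → u * (g * v * g⁻¹) ∈ Q := fun v hv hn =>
    (B.conj_half hgn (B.half_Q hv)).resolve_left hn
  have hinv : ∀ v ∈ Q, v ∈ A → k * v * k⁻¹ ∈ A := fun v hv hvA => by
    obtain ⟨hhf, hhu⟩ := B.flat_diff hS hF (k := k⁻¹) (inv_mem hk) hg
    have hhQ : g⁻¹ * (k⁻¹ * g * k⁻¹⁻¹) * v * (g⁻¹ * (k⁻¹ * g * k⁻¹⁻¹))⁻¹ ∈ Q :=
      B.conj_Q_of_commute (B.flat_le hhf) hhu hv
    set h := g⁻¹ * (k⁻¹ * g * k⁻¹⁻¹) with hh
    have he : v⁻¹ * (h * v * h⁻¹) ∈ E :=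
      (B.half_E (mul_mem (inv_mem hv) hhQ)).1 ((B.mem_flat.1 hhf).2 v hv)
    have hA' : h * v * h⁻¹ ∈ A := by
      rw [show h * v * h⁻¹ = v * (v⁻¹ * (h * v * h⁻¹)) by group]
      exact mul_mem hvA (hEA _ he)
    refine ⟨(B.loc.K_normQ k (mem_sup_right hk) v).2 hv, ?_⟩
    rw [show g * (k * v * k⁻¹) * g⁻¹ = k * (g * (h * v * h⁻¹) * g⁻¹) * k⁻¹ by rw [hh]; group]
    exact (B.loc.K_normQ k (mem_sup_right hk) _).2 hA'.2
  have hpair : ∀ v ∈ Q, k * v * k⁻¹ * v⁻¹ ∈ A := fun v hv => by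
    by_cases hvA : v ∈ A
    · exact mul_mem (hinv v hv hvA) (inv_mem hvA)
    have hkv := (B.loc.K_normQ k (mem_sup_right hk) v).2 hv
    refine ⟨mul_mem hkv (inv_mem hv), ?_⟩
    rw [show g * (k * v * k⁻¹ * v⁻¹) * g⁻¹ = g * (k * v * k⁻¹) * g⁻¹ * (g * v * g⁻¹)⁻¹ by group]
    have h2 := hout v hv fun e => hvA ⟨hv, e⟩
    by_cases hkvA : g * (k * v * k⁻¹) * g⁻¹ ∈ Q
    · exfalso
      obtain ⟨i, hi⟩ : ∃ i : ℕ, k ^ i = k⁻¹ :=
        ⟨orderOf k - 1, by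
          rw [eq_comm, inv_eq_iff_mul_eq_one, ← pow_succ', Nat.sub_add_cancel (orderOf_pos k), pow_orderOf_eq_one]⟩
      have hpow : ∀ j : ℕ, k ^ j * (k * v * k⁻¹) * (k ^ j)⁻¹ ∈ A := by
        intro j
        induction j with
        | zero => simpa using (show k * v * k⁻¹ ∈ A from ⟨hkv, hkvA⟩)
        | succ j ih =>
          have := hinv _ ih.1 ih
          rwa [show k * (k ^ j * (k * v * k⁻¹) * (k ^ j)⁻¹) * k⁻¹ =
            k ^ (j + 1) * (k * v * k⁻¹) * (k ^ (j + 1))⁻¹ by rw [pow_succ']; group] at this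
      have := hpow i
      rw [hi, show k⁻¹ * (k * v * k⁻¹) * k⁻¹⁻¹ = v by group] at this
      exact hvA this
    have h1 := hout _ hkv hkvA
    rw [show g * (k * v * k⁻¹) * g⁻¹ * (g * v * g⁻¹)⁻¹ = u⁻¹ * ((u * (g * (k * v * k⁻¹) * g⁻¹)) *
        (u * (g * v * g⁻¹))⁻¹) * u by group,
      mul_assoc, (B.Q_commute_u (mul_mem h1 (inv_mem h2))).eq, inv_mul_cancel_left]
    exact mul_mem h1 (inv_mem h2)
  obtain ⟨c, hc, hce⟩ := B.exists_comm_torus hk hfpf hy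
  have : y ∈ A := by
    rw [show y = (k * c * k⁻¹ * c⁻¹) * (y⁻¹ * (k * c * k⁻¹ * c⁻¹))⁻¹ by group]
    exact mul_mem (hpair c hc) (inv_mem (hEA _ hce))
  exact this.2

/-- A flat element fixes each class of `Q`. -/
theorem flat_class {g : G} (hg : g ∈ B.flat) {y : G} (hy : y ∈ Q) : y⁻¹ * (g * y * g⁻¹) ∈ E :=
  (B.half_E (mul_mem (inv_mem hy) (B.flat_conj_Q hS hF hg hy))).1 ((B.mem_flat.1 hg).2 y hy)

/-- A flat element commuting with `u` acts on `Q` as one of it. -/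
theorem flat_inner {h : G} (hh : h ∈ B.flat) (hhu : Commute h u) :
    ∃ q ∈ Q, ∀ y ∈ Q, h * y * h⁻¹ = q * y * q⁻¹ := by
  have hha := B.mem_stab_n (B.flat_le hh)
  obtain ⟨q, ⟨hq, hqx⟩, -⟩ := B.loc.reg (h • x) (B.fix_smul hhu B.cfg.hx)
    fun e => B.cfg.hxa (MulAction.injective h (e.trans hha.symm))
  refine ⟨q, hq, fun y hy => ?_⟩
  set d := q⁻¹ * h with hd
  have hdy : ∀ v, d * v * d⁻¹ = q⁻¹ * (h * v * h⁻¹) * q := fun v => by rw [hd]; group
  have h1 := B.commute_of_trivial (d := d) (((B.Q_commute_u hq).inv_left).mul_left hhu)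
    (by rw [mul_smul, hha, inv_smul_eq_iff, B.mem_a (B.loc.Q_le hq)])
    (by rw [mul_smul, ← hqx, inv_smul_smul])
    (Subgroup.mem_normalizer_fintype fun v hv => by
      rw [SetLike.mem_coe, hdy]
      exact mul_mem (mul_mem (inv_mem hq) (B.flat_conj_Q hS hF hh hv)) hq)
    (fun v hv => by
      have he := B.flat_class hS hF hh hv
      rw [hdy, show v⁻¹ * (q⁻¹ * (h * v * h⁻¹) * q) =
        v⁻¹ * q⁻¹ * v⁻¹⁻¹ * q⁻¹⁻¹ * (q⁻¹ * (v⁻¹ * (h * v * h⁻¹)) * q) by group,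
        mul_assoc q⁻¹, (B.loc.cen _ he q hq).eq, inv_mul_cancel_left]
      exact mul_mem (B.loc.comm _ (inv_mem hv) _ (inv_mem hq)) he) y hy
  have h2 : d * y * d⁻¹ = y := by rw [h1.eq, mul_inv_cancel_right]
  rw [hdy] at h2
  calc h * y * h⁻¹ = q * (q⁻¹ * (h * y * h⁻¹) * q) * q⁻¹ := by group
    _ = _ := by rw [h2]

/-- A flat element times one of `Q` centralises `Q`. -/
theorem exists_centralizing {g : G} (hg : g ∈ B.flat) : ∃ c ∈ Q, ∀ y ∈ Q, Commute (g * c) y := by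
  obtain ⟨k, hk, hfpf⟩ := B.exists_torus1
  obtain ⟨hhf, hhu⟩ := B.flat_diff hS hF hk hg
  set h := g⁻¹ * (k * g * k⁻¹) with hh
  obtain ⟨q, hq, hqy⟩ := B.flat_inner hS hF hhf hhu
  obtain ⟨c, hc, hce⟩ := B.exists_comm_torus hk hfpf (inv_mem hq)
  rw [inv_inv] at hce
  refine ⟨c, hc, ?_⟩
  have hkQ : ∀ v, v ∈ Q → k * v * k⁻¹ ∈ Q := fun v hv => (B.loc.K_normQ k (mem_sup_right hk) v).2 hv
  set gc := g * c with hgc
  have hgcf : gc ∈ B.flat := mul_mem hg (hF.half_flat c (B.half_Q hc))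
  have hgcQ : ∀ v ∈ Q, gc * v * gc⁻¹ ∈ Q := fun v hv => B.flat_conj_Q hS hF hgcf hv
  let ε : G → G := fun v => v⁻¹ * (gc * v * gc⁻¹)
  have hεE : ∀ v ∈ Q, ε v ∈ E := fun v hv => B.flat_class hS hF hgcf hv
  have hval : ∀ v ∈ Q, gc * v * gc⁻¹ = v * ε v := fun v _ => (mul_inv_cancel_left _ _).symm
  have hmul : ∀ v ∈ Q, ∀ w ∈ Q, ε (v * w) = ε v * ε w := fun v hv w hw => by
    show (v * w)⁻¹ * (gc * (v * w) * gc⁻¹) = _
    rw [show (v * w)⁻¹ * (gc * (v * w) * gc⁻¹) = w⁻¹ * ε v * (gc * w * gc⁻¹) by simp only [ε]; group,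
      ← (B.loc.cen _ (hεE v hv) _ (inv_mem hw)).eq, mul_assoc]
  have hεe : ∀ e ∈ E, ε e = 1 := fun e he => by
    show e⁻¹ * _ = _
    rw [(hF.cenE gc hgcf e he).eq, mul_inv_cancel_right, inv_mul_cancel]
  have hk' : ∀ v ∈ Q, ε (k * v * k⁻¹) = ε v := fun v hv => by
    have hkv := hkQ v hv
    have e0 : k * gc * k⁻¹ = g * h * (k * c * k⁻¹) := by rw [hh, hgc]; group
    have e1 : ∀ w ∈ Q, (k * gc * k⁻¹) * w * (k * gc * k⁻¹)⁻¹ = gc * w * gc⁻¹ := fun w hw => by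
      set e := q * (k * c * k⁻¹ * c⁻¹) with he
      have hcw : Commute e (c * w * c⁻¹) :=
        B.loc.cen e hce _ (mul_mem (mul_mem hc hw) (inv_mem hc))
      rw [e0, show g * h * (k * c * k⁻¹) * w * (g * h * (k * c * k⁻¹))⁻¹ =
        g * (h * (k * c * k⁻¹ * w * (k * c * k⁻¹)⁻¹) * h⁻¹) * g⁻¹ by group,
        hqy _ (mul_mem (mul_mem (hkQ c hc) hw) (inv_mem (hkQ c hc))),
        show q * (k * c * k⁻¹ * w * (k * c * k⁻¹)⁻¹) * q⁻¹ = e * (c * w * c⁻¹) * e⁻¹ by rw [he]; group,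
        hcw.eq, mul_inv_cancel_right, hgc]
      group
    have e2 : gc * (k * v * k⁻¹) * gc⁻¹ = k * v * k⁻¹ * ε v := by
      rw [← e1 _ hkv, show k * gc * k⁻¹ * (k * v * k⁻¹) * (k * gc * k⁻¹)⁻¹ = k * (gc * v * gc⁻¹) * k⁻¹ by group,
        hval v hv, show k * (v * ε v) * k⁻¹ = k * v * k⁻¹ * (k * ε v * k⁻¹) by group,
        (B.loc.K1_eset k hk _ (hεE v hv)).eq, mul_inv_cancel_right]
    show (k * v * k⁻¹)⁻¹ * (gc * (k * v * k⁻¹) * gc⁻¹) = _
    rw [e2, inv_mul_cancel_left]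
  intro y hy
  obtain ⟨v, hv, hve⟩ := B.exists_comm_torus hk hfpf hy
  have hkv := hkQ v hv
  have h1 : ε (k * v * k⁻¹ * v⁻¹) = 1 := by
    have h2 := hmul v hv v⁻¹ (inv_mem hv)
    rw [mul_inv_cancel, hεe 1 (one_mem E)] at h2
    rw [hmul _ hkv _ (inv_mem hv), hk' v hv, ← h2]
  have h3 : ε y = 1 := by
    have h4 := hmul y hy _ (B.loc.eset_le hve)
    rw [mul_inv_cancel_left, h1, hεe _ hve, mul_one] at h4
    exact h4.symm
  have h5 := hval y hy
  rw [h3, mul_one] at h5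
  exact mul_inv_eq_iff_eq_mul.1 h5

/-- The part centralising `Q`. -/
theorem exists_wcfg : ∃ W : Subgroup G, WCfg u E Q K (S : Subgroup G) W := by
  classical
  haveI : Fact (Nat.Prime 2) := ⟨Nat.prime_two⟩
  have hS2 : IsPGroup 2 (S : Subgroup G) := S.2
  set Wst := B.flat ⊓ centralizer (Q : Set G) with hWst
  set W := (S : Subgroup G) ⊓ Wst with hW
  have hmem : ∀ w ∈ W, w ∈ (S : Subgroup G) ∧ w ∈ B.flat ∧ ∀ y ∈ Q, Commute w y := fun w hw =>
    ⟨hw.1, hw.2.1, fun y hy => (mem_centralizer_iff.1 hw.2.2 y hy).symm⟩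
  have huh : u ∈ half Q u := Or.inr (by rw [B.uu]; exact one_mem Q)
  have huW : u ∈ W := ⟨hS.T_le B.u_T, hF.half_flat u huh,
    mem_centralizer_iff.2 fun y hy => (B.Q_commute_u hy).eq⟩
  have hEW : E ≤ W := fun e he => ⟨hS.T_le (B.loc.Q_le (B.loc.eset_le he)),
    hF.half_flat e (B.half_Q (B.loc.eset_le he)), mem_centralizer_iff.2 fun y hy => (B.loc.cen e he y hy).eq.symm⟩
  have hinT : ∀ w ∈ W, Commute w u → w ∈ half E u := by
    intro w hw hwu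
    obtain ⟨hwS, hwf, hwQ⟩ := hmem w hw
    have hwh := hF.flat_T w (B.mem_T_of_two hS2 hS.T_le hwS (B.S_fix hS hwS) hwu) hwf
    rcases hwh with h1 | h1
    · exact Or.inl ((B.mem_center (y := ⟨w, h1⟩)).1 (Subgroup.mem_center_iff.2 fun y =>
        Subtype.ext (hwQ y y.2).eq.symm))
    · exact Or.inr ((B.mem_center (y := ⟨u * w, h1⟩)).1 (Subgroup.mem_center_iff.2 fun y =>
        Subtype.ext ((B.Q_commute_u y.2).symm.mul_left (hwQ y y.2)).eq.symm))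
  have hval : ∀ w ∈ W, ∃ f ∈ E, w * u * w⁻¹ = u * f := fun w hw => B.exists_val_S hS hw.1
  have hsq : ∀ w ∈ W, w * w ∈ E := by
    intro w hw
    obtain ⟨f, hf, hwf⟩ := hval w hw
    have hwe : ∀ e ∈ E, Commute w e := fun e he => (hmem w hw).2.2 e (B.loc.eset_le he)
    have hwwu : Commute (w * w) u := by
      refine mul_inv_eq_iff_eq_mul.1 ?_
      rw [show w * w * u * (w * w)⁻¹ = w * (w * u * w⁻¹) * w⁻¹ by group, hwf,
        show w * (u * f) * w⁻¹ = (w * u * w⁻¹) * (w * f * w⁻¹) by group, hwf, (hwe f hf).eq, mul_inv_cancel_right,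
        mul_assoc, B.cfg.hE.sq f hf, mul_one]
    rcases hinT _ (mul_mem hw hw) hwwu with h1 | h1
    · exact h1
    have hwu : Commute w u := by
      have h2 : Commute w (w * w) := (Commute.refl w).mul_right (Commute.refl w)
      have h3 := h2.mul_right ((hwe _ h1).inv_right)
      rwa [mul_inv_rev, mul_inv_cancel_left, Invol.inv_self B.cfg.hu] at h3
    rcases hinT w hw hwu with h2 | h2
    · rw [B.cfg.hE.sq w h2]; exact one_mem E
    · have h3 := B.cfg.hE.sq _ h2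
      rw [hwu.mul_mul_mul_comm, B.uu, one_mul] at h3
      rw [h3]; exact one_mem E
  have htrans : ∀ f ∈ E, ∃ w ∈ W, w * u * w⁻¹ = u * f := by
    intro f hf
    obtain ⟨s, hs, hsf, hsu⟩ := hF.trans f hf
    obtain ⟨c, hc, hcc⟩ := B.exists_centralizing hS hF hsf
    refine ⟨s * c, ⟨mul_mem hs (hS.T_le (B.loc.Q_le hc)), mul_mem hsf (hF.half_flat c (B.half_Q hc)),
      mem_centralizer_iff.2 fun y hy => (hcc y hy).eq.symm⟩, ?_⟩
    rw [show s * c * u * (s * c)⁻¹ = s * (c * u * c⁻¹) * s⁻¹ by group, (B.Q_commute_u hc).eq, mul_inv_cancel_right,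
      hsu]
  set N1 := nSub u a E Q ⊓ normalizer (Q : Set G) with hN1
  have hSQ : (S : Subgroup G) ≤ normalizer (Q : Set G) := fun s hs => Subgroup.mem_normalizer_fintype fun y hy => by
    obtain ⟨f, hf, hsu⟩ := B.exists_val_S hS hs
    obtain ⟨w, hw, hwu⟩ := htrans f hf
    have ht : Commute (w⁻¹ * s) u := mul_inv_eq_iff_eq_mul.1 (by
      rw [show w⁻¹ * s * u * (w⁻¹ * s)⁻¹ = w⁻¹ * (s * u * s⁻¹) * w by group, hsu, ← hwu]; group)
    have htS : w⁻¹ * s ∈ (S : Subgroup G) := mul_mem (inv_mem hw.1) hs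
    have h1 := B.conj_Q (B.mem_T_of_two hS2 hS.T_le htS (B.S_fix hS htS) ht) hy
    rw [SetLike.mem_coe, show s * y * s⁻¹ = w * (w⁻¹ * s * y * (w⁻¹ * s)⁻¹) * w⁻¹ by group]
    rw [((hmem w hw).2.2 _ h1).eq, mul_inv_cancel_right]
    exact h1
  have hSN : (S : Subgroup G) ≤ N1 := le_inf hF.S_le_n hSQ
  have hN1W : ∀ g ∈ N1, ∀ w ∈ Wst, g * w * g⁻¹ ∈ Wst := fun g hg w hw =>
    ⟨B.flat_conj hg.1 hw.1, mem_centralizer_iff.2 fun y hy => by
      have hy' : g⁻¹ * y * g ∈ Q := (mem_normalizer_iff.1 hg.2 _).2 (by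
        rw [show g * (g⁻¹ * y * g) * g⁻¹ = y by group]; exact hy)
      have e := mem_centralizer_iff.1 hw.2 _ hy'
      calc y * (g * w * g⁻¹) = g * ((g⁻¹ * y * g) * w) * g⁻¹ := by group
        _ = g * (w * (g⁻¹ * y * g)) * g⁻¹ := by rw [e]
        _ = _ := by group⟩
  refine ⟨W, ⟨inf_le_left, fun s hs w hw => ⟨(S : Subgroup G).mul_mem ((S : Subgroup G).mul_mem hs hw.1) ((S : Subgroup G).inv_mem hs),
      hN1W s (hSN hs) w hw.2⟩,
    fun w hw => (hmem w hw).2.2, hsq, hinT, huW, hEW, htrans, fun k hk => ?_⟩⟩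
  -- Frattini
  have hWN : Wst ≤ N1 := fun w hw => ⟨B.flat_le hw.1, Subgroup.mem_normalizer_fintype fun y hy => by
    rw [SetLike.mem_coe, ← mem_centralizer_iff.1 hw.2 y hy, mul_inv_cancel_right]
    exact hy⟩
  haveI : (Wst.subgroupOf N1).Normal := ⟨fun w hw g => hN1W g g.2 w hw⟩
  have hodd : ¬ 2 ∣ (W.subgroupOf Wst).index := by
    show ¬ 2 ∣ W.relIndex Wst
    rw [hW, Subgroup.inf_relIndex_right, ← Subgroup.relIndex_subgroupOf hWN,
      PBasic.relIndex_eq_relIndex_sup]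
    intro h2
    exact (S.subtype hSN).not_dvd_index (h2.trans (Subgroup.relIndex_dvd_index_of_le le_sup_right))
  let W0 : Sylow 2 Wst := IsPGroup.toSylow ((hS2.to_le inf_le_left).comap_subtype : IsPGroup 2 (W.subgroupOf Wst)) hodd
  have hkN : k ∈ N1 := ⟨B.K_le_n (mem_sup_left hk),
    mem_normalizer_iff.2 fun y => (B.loc.K_normQ k (mem_sup_left hk) y).symm⟩
  set W' := W.map (MulAut.conj k).toMonoidHom with hW'
  have hW'le : W' ≤ Wst := by
    rintro _ ⟨w, hw, rfl⟩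
    exact hN1W k hkN w hw.2
  obtain ⟨S', hS'⟩ := (((hS2.to_le inf_le_left : IsPGroup 2 W).map _).comap_subtype :
    IsPGroup 2 (W'.subgroupOf Wst)).exists_le_sylow
  obtain ⟨c, hc⟩ := MulAction.exists_smul_eq Wst S' W0
  set n' := (c : G) * k with hn'
  have hn'W : n' ∈ normalizer (W : Set G) := Subgroup.mem_normalizer_fintype fun w hw => by
    have h1 : k * w * k⁻¹ ∈ W' := ⟨w, hw, rfl⟩
    have h2 : c * (⟨k * w * k⁻¹, hW'le h1⟩ : Wst) * c⁻¹ ∈ (W0 : Subgroup Wst) := by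
      rw [← hc, Sylow.coe_subgroup_smul]
      exact ⟨⟨k * w * k⁻¹, hW'le h1⟩, hS' h1, rfl⟩
    have h3 : (c : G) * (k * w * k⁻¹) * (c : G)⁻¹ ∈ W := h2
    rw [SetLike.mem_coe, show n' * w * n'⁻¹ = (c : G) * (k * w * k⁻¹) * (c : G)⁻¹ by rw [hn']; group]
    exact h3
  have hn'E : ∀ e ∈ E, n' * e * n'⁻¹ = k * e * k⁻¹ := fun e he => by
    rw [hn', show (c : G) * k * e * ((c : G) * k)⁻¹ = c * (k * e * k⁻¹) * (c : G)⁻¹ by group,
      ← mem_centralizer_iff.1 c.2.2 _ (B.loc.eset_le ((B.loc.K_normE k (mem_sup_left hk) e).2 he)),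
      mul_inv_cancel_right]
  have hn'n : n' ∈ nSub u a E Q := mul_mem (B.flat_le c.2.1) hkN.1
  obtain ⟨f, hf, hn'u⟩ := B.exists_val hn'n.1.1
  obtain ⟨w, hw, hwu⟩ := htrans f hf
  refine ⟨w⁻¹ * n', mul_mem (inv_mem (Subgroup.le_normalizer hw)) hn'W, mul_inv_eq_iff_eq_mul.1 ?_,
    fun e he => ?_⟩
  · rw [show w⁻¹ * n' * u * (w⁻¹ * n')⁻¹ = w⁻¹ * (n' * u * n'⁻¹) * w by group, hn'u, ← hwu]; group
  · rw [show w⁻¹ * n' * e * (w⁻¹ * n')⁻¹ = w⁻¹ * (n' * e * n'⁻¹) * w by group, hn'E e he, mul_assoc,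
      ← ((hmem w hw).2.2 _ (B.loc.eset_le ((B.loc.K_normE k (mem_sup_left hk) e).2 he))).eq, inv_mul_cancel_left]

end LargeBase

end Cfsg.Agent.GoodInvol
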