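import Cfsg.Agent.Lib.GoodInvol.CaseBLarge.Sylow
import Cfsg.Agent.Lib.GoodInvol.CaseBLarge.Pieces

/-!
# A large 2-group on two points: the abelian half

Elements centralising `E` and `u` and normalising `W` are trivial on `W / E`. So the commutators of a lift of the torus
with `W` give one half of `W`, invariant under all lifts and under `C`; squaring on it is conjugation by one element of
the torus, so additive, and the half is abelian.
-/

set_option autoImplicit false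
set_option linter.style.haveILetI false
set_option linter.unusedSectionVars false

namespace Cfsg.Agent.GoodInvol

open Subgroup MulAction

universe u

variable {G : Type u} [Group G] [Finite G] {Ω : Type u} [MulAction G Ω] [Finite Ω] [FaithfulSMul G Ω] {D : Set G}

namespace LargeBase

variable {u : G} {a x : Ω} {T : Sylow 2 (ptC u a)} {E P Q K K1 : Subgroup G} {r : ℕ}
  (B : LargeBase D u a x T E P Q K K1 r)
include B

variable {S : Sylow 2 G} {W0 : Subgroup G}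

theorem vec_cenE (hW : WCfg u E Q K (S : Subgroup G) W0) {w : G} (hw : w ∈ W0) {e : G} (he : e ∈ E) :
    Commute w e :=
  hW.cenQ w hw e (B.loc.eset_le he)

/-- Translations multiply. -/
theorem vec_tr_mul (hW : WCfg u E Q K (S : Subgroup G) W0) {w w' f f' : G} (hw : w ∈ W0)
    (hf' : f' ∈ E) (h : w * u * w⁻¹ = u * f) (h' : w' * u * w'⁻¹ = u * f') :
    w * w' * u * (w * w')⁻¹ = u * (f * f') := by
  rw [show w * w' * u * (w * w')⁻¹ = w * (w' * u * w'⁻¹) * w⁻¹ by group, h',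
    show w * (u * f') * w⁻¹ = (w * u * w⁻¹) * (w * f' * w⁻¹) by group, h, (B.vec_cenE hW hw hf').eq,
    mul_inv_cancel_right, mul_assoc]

theorem vec_tr_inv (hW : WCfg u E Q K (S : Subgroup G) W0) {w f : G} (hw : w ∈ W0) (hf : f ∈ E)
    (h : w * u * w⁻¹ = u * f) : w⁻¹ * u * w⁻¹⁻¹ = u * f := by
  have h1 : Commute w⁻¹ f := (B.vec_cenE hW hw hf).inv_left
  calc w⁻¹ * u * w⁻¹⁻¹ = w⁻¹ * ((u * f) * f) * w⁻¹⁻¹ := by rw [mul_assoc u f f, B.cfg.hE.sq f hf, mul_one]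
    _ = w⁻¹ * (w * u * w⁻¹) * (f * w⁻¹⁻¹) := by rw [h]; group
    _ = u * (w⁻¹ * f * w⁻¹⁻¹) := by group
    _ = u * f := by rw [h1.eq, mul_inv_cancel_right]

/-- Commutators in `W` lie in `E`. -/
theorem vec_comm (hW : WCfg u E Q K (S : Subgroup G) W0) {w w' : G} (hw : w ∈ W0) (hw' : w' ∈ W0) :
    w * w' * w⁻¹ * w'⁻¹ ∈ E := by
  have h1 := inv_mem (hW.sq w hw)
  rw [show w * w' * w⁻¹ * w'⁻¹ = (w * w' * (w * w')) * (w'⁻¹ * (w * w)⁻¹ * w') * (w' * w')⁻¹ by group,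
    mul_assoc w'⁻¹, ← (B.vec_cenE hW hw' h1).eq, inv_mul_cancel_left]
  exact mul_mem (mul_mem (hW.sq _ (mul_mem hw hw')) h1) (inv_mem (hW.sq w' hw'))

/-- An element centralising `u` and `E` and normalising `W` fixes each coset of `E` in it. -/
theorem vec_trivial (hS : SylCfg u a (tSub T) E S r) (hW : WCfg u E Q K (S : Subgroup G) W0) {d : G}
    (hdu : Commute d u) (hdE : ∀ e ∈ E, Commute d e) (hdW : d ∈ normalizer (W0 : Set G)) {w : G} (hw : w ∈ W0) :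
    w⁻¹ * (d * w * d⁻¹) ∈ E := by
  have hdw : d * w * d⁻¹ ∈ W0 := (mem_normalizer_iff.1 hdW w).1 hw
  obtain ⟨f, hf, hwf⟩ := B.exists_val_S hS (hW.W_le hw)
  have hdwf : d * w * d⁻¹ * u * (d * w * d⁻¹)⁻¹ = u * f := by
    rw [show d * w * d⁻¹ * u * (d * w * d⁻¹)⁻¹ = d * (w * (d⁻¹ * u * d) * w⁻¹) * d⁻¹ by group,
      show d⁻¹ * u * d = u by rw [mul_assoc, ← hdu.eq, inv_mul_cancel_left], hwf,
      (hdu.mul_right (hdE f hf)).eq, mul_inv_cancel_right]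
  have h1 := B.vec_tr_mul hW (inv_mem hw) hf (B.vec_tr_inv hW hw hf hwf) hdwf
  rw [B.cfg.hE.sq f hf, mul_one] at h1
  rcases hW.inT _ (mul_mem (inv_mem hw) hdw) (mul_inv_eq_iff_eq_mul.1 h1) with h2 | h2
  · exact h2
  set e := u * (w⁻¹ * (d * w * d⁻¹)) with he
  have hue : w⁻¹ * (d * w * d⁻¹) = u * e := by rw [he, ← mul_assoc u u, B.uu, one_mul]
  have hdw' : d * w * d⁻¹ = w * u * e := by rw [mul_assoc w u e, ← hue, mul_inv_cancel_left]
  have hsq : w * w = w * u * (w * u) := by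
    calc w * w = d * (w * w) * d⁻¹ := by rw [(hdE _ (hW.sq w hw)).eq, mul_inv_cancel_right]
      _ = (d * w * d⁻¹) * (d * w * d⁻¹) := by group
      _ = (w * u) * e * ((w * u) * e) := by rw [hdw']
      _ = (w * u) * (w * u) * (e * e) :=
        ((B.vec_cenE hW hw h2).mul_left (B.u_comm_E h2)).symm.mul_mul_mul_comm _ _
      _ = _ := by rw [B.cfg.hE.sq e h2, mul_one]
  rw [mul_assoc] at hsq
  have hwu : Commute w u := by
    have h3 : w = u * (w * u) := mul_left_cancel hsq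
    show w * u = u * w
    calc w * u = u * (u * (w * u)) := by rw [← mul_assoc u u, B.uu, one_mul]
      _ = u * w := by rw [← h3]
  have hdwc : Commute d w := by
    rcases hW.inT w hw hwu with h3 | h3
    · exact hdE w h3
    · have h4 := hdu.mul_right (hdE _ h3)
      rwa [← mul_assoc, B.uu, one_mul] at h4
  rw [hdwc.eq, mul_inv_cancel_right, inv_mul_cancel]
  exact one_mem E

theorem vec_exists_k : ∃ k ∈ K, k ∉ kerCore Ω u := by
  by_contra! hall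
  have h1 := B.loc.K_card
  rw [Subgroup.relIndex_eq_one.2 fun k hk => (fixCore_le _ (mem_kerCore.1 (hall k hk)).1 : k ∈ fixStab Ω u)] at h1
  have := B.four_le
  omega

set_option maxHeartbeats 1000000 in
/-- The abelian half. -/
theorem exists_vec (hS : SylCfg u a (tSub T) E S r) (hW : WCfg u E Q K (S : Subgroup G) W0) {z : G}
    {C : Subgroup G} (W : TwistCfg u z E P Q C r) : ∃ W1, VecCfg u E Q C (S : Subgroup G) W1 r := by
  classical
  have hcE : ∀ {w}, w ∈ W0 → ∀ {e}, e ∈ E → Commute w e := fun {w} hw {e} he => B.vec_cenE hW hw he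
  obtain ⟨k, hk, hk'⟩ := B.vec_exists_k
  obtain ⟨n, hnW, hnu, hnE⟩ := hW.lift k hk
  have hKE : ∀ k' ∈ K, ∀ e ∈ E, k' * e * k'⁻¹ ∈ E := fun k' hk' e he =>
    (B.loc.K_normE k' (mem_sup_left hk') e).2 he
  have hnEm : ∀ e ∈ E, n * e * n⁻¹ ∈ E := fun e he => hnE e he ▸ hKE k hk e he
  have hfpf : ∀ f ∈ E, n * f * n⁻¹ = f → f = 1 := fun f hf e => by
    by_contra hf1
    rw [hnE f hf] at e
    exact hk' (B.loc.K_fpf k hk f hf hf1 (mul_inv_eq_iff_eq_mul.1 e))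
  have hmem : ∀ m ∈ normalizer (W0 : Set G), ∀ v ∈ W0, m * v * m⁻¹ ∈ W0 := fun m hm v hv =>
    (mem_normalizer_iff.1 hm v).1 hv
  -- congruence modulo `E`
  have hcong : ∀ {a b a' b' : G}, a' ∈ W0 → a⁻¹ * b ∈ E → a'⁻¹ * b' ∈ E → (a * a')⁻¹ * (b * b') ∈ E := by
    intro a b a' b' ha' h1 h2
    rw [show (a * a')⁻¹ * (b * b') = a'⁻¹ * (a⁻¹ * b) * a' * (a'⁻¹ * b') by group, mul_assoc a'⁻¹,
      ← (hcE ha' h1).eq, inv_mul_cancel_left]
    exact mul_mem h1 h2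
  have hbr : ∀ v ∈ W0, ∀ v' ∈ W0,
      (n * v * n⁻¹ * v⁻¹ * (n * v' * n⁻¹ * v'⁻¹))⁻¹ * (n * (v * v') * n⁻¹ * (v * v')⁻¹) ∈ E := by
    intro v hv v' hv'
    set x' := n * v' * n⁻¹ * v'⁻¹ with hx'
    have hx'W : x' ∈ W0 := mul_mem (hmem n hnW v' hv') (inv_mem hv')
    rw [show (n * v * n⁻¹ * v⁻¹ * x')⁻¹ * (n * (v * v') * n⁻¹ * (v * v')⁻¹) = x'⁻¹ * v * x' * v⁻¹ by rw [hx']; group]
    have h1 := B.vec_comm hW (inv_mem hx'W) hv
    rwa [inv_inv] at h1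
  let W1 : Subgroup G :=
    { carrier := {w | w ∈ W0 ∧ ∃ v ∈ W0, w⁻¹ * (n * v * n⁻¹ * v⁻¹) ∈ E}
      one_mem' := ⟨one_mem _, 1, one_mem _, by simp⟩
      mul_mem' := by
        rintro w w' ⟨hw, v, hv, hwv⟩ ⟨hw', v', hv', hwv'⟩
        refine ⟨mul_mem hw hw', v * v', mul_mem hv hv', ?_⟩
        have h1 := mul_mem (hcong hw' hwv hwv') (hbr v hv v' hv')
        rwa [mul_assoc ((w * w')⁻¹), mul_inv_cancel_left] at h1
      inv_mem' := by
        rintro w ⟨hw, v, hv, hwv⟩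
        refine ⟨inv_mem hw, v, hv, ?_⟩
        rw [show w⁻¹⁻¹ * (n * v * n⁻¹ * v⁻¹) = w * w * (w⁻¹ * (n * v * n⁻¹ * v⁻¹)) by group]
        exact mul_mem (hW.sq w hw) hwv }
  have hW1 : ∀ w, w ∈ W1 ↔ w ∈ W0 ∧ ∃ v ∈ W0, w⁻¹ * (n * v * n⁻¹ * v⁻¹) ∈ E := fun w => Iff.rfl
  have hEW1 : ∀ e ∈ E, e ∈ W1 := fun e he => ⟨hW.E_le he, 1, one_mem _, by simpa using he⟩
  have hW1c : ∀ {w w' : G}, w ∈ W1 → w⁻¹ * w' ∈ E → w' ∈ W1 := fun {w w'} hw he => by
    have := mul_mem hw (hEW1 _ he)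
    rwa [mul_inv_cancel_left] at this
  have hbrW1 : ∀ v ∈ W0, n * v * n⁻¹ * v⁻¹ ∈ W1 := fun v hv =>
    ⟨mul_mem (hmem n hnW v hv) (inv_mem hv), v, hv, by rw [inv_mul_cancel]; exact one_mem E⟩
  have hconjtr : ∀ m ∈ normalizer (W0 : Set G), Commute m u → ∀ v f : G, v * u * v⁻¹ = u * f →
      m * v * m⁻¹ * u * (m * v * m⁻¹)⁻¹ = u * (m * f * m⁻¹) := fun m _ hmu v f h => by
    rw [show m * v * m⁻¹ * u * (m * v * m⁻¹)⁻¹ = m * (v * (m⁻¹ * u * m) * v⁻¹) * m⁻¹ by group,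
      show m⁻¹ * u * m = u by rw [mul_assoc, ← hmu.eq, inv_mul_cancel_left], h, ← mul_assoc m, hmu.eq]
    group
  -- translations of the commutators
  have hbrtr : ∀ v ∈ W0, ∀ f ∈ E, v * u * v⁻¹ = u * f →
      n * v * n⁻¹ * v⁻¹ * u * (n * v * n⁻¹ * v⁻¹)⁻¹ = u * (n * f * n⁻¹ * f) := fun v hv f hf hvf =>
    B.vec_tr_mul hW (hmem n hnW v hv) hf (hconjtr n hnW hnu v f hvf) (B.vec_tr_inv hW hv hf hvf)
  have hinT : ∀ w ∈ W1, Commute w u → w ∈ E := by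
    rintro w ⟨hw, v, hv, hwv⟩ hwu
    set b := n * v * n⁻¹ * v⁻¹ with hb
    obtain ⟨f, hf, hvf⟩ := B.exists_val_S hS (hW.W_le hv)
    have hbu : Commute b u := by
      have h1 : Commute (w * (w⁻¹ * b)) u := hwu.mul_left (B.u_comm_E hwv).symm
      rwa [mul_inv_cancel_left] at h1
    have h2 := hbrtr v hv f hf hvf
    rw [← hb, hbu.eq, mul_inv_cancel_right, left_eq_mul, ← eq_inv_iff_mul_eq_one,
      inv_eq_of_mul_eq_one_right (B.cfg.hE.sq f hf)] at h2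
    have hf1 := hfpf f hf h2
    rw [hf1, mul_one] at hvf
    have hbE : b ∈ E := by
      have hvu : Commute v u := mul_inv_eq_iff_eq_mul.1 hvf
      rcases hW.inT v hv hvu with h3 | h3
      · exact mul_mem (hnEm v h3) (inv_mem h3)
      · have h4 := mul_mem (hnEm _ h3) (inv_mem h3)
        rw [show n * (u * v) * n⁻¹ * (u * v)⁻¹ = n * u * n⁻¹ * b * u⁻¹ by rw [hb]; group, hnu.eq,
          mul_inv_cancel_right] at h4
        have h5 : u * b * u⁻¹ = b := by rw [← hbu.eq, mul_inv_cancel_right]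
        rwa [h5] at h4
    rw [show w = b * (w⁻¹ * b)⁻¹ by group]
    exact mul_mem hbE (inv_mem hwv)
  have huW1 : u ∉ W1 := fun h => B.u_notMem_E (hinT u h (Commute.refl u))
  have huconj : ∀ w ∈ W1, u * w * u⁻¹ ∈ W1 := fun w hw => by
    refine hW1c hw ?_
    have h1 := B.vec_comm hW (inv_mem hw.1) hW.u_mem
    rw [inv_inv] at h1
    rwa [← mul_assoc, ← mul_assoc]
  -- the other half
  have hsplit : ∀ w ∈ W0, w ∈ W1 ∨ u * w ∈ W1 := by
    intro w hw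
    obtain ⟨f, hf, hwf⟩ := B.exists_val_S hS (hW.W_le hw)
    let φ : E →* E := MonoidHom.mk' (fun e => ⟨n * e * n⁻¹ * e, mul_mem (hnEm e e.2) e.2⟩) fun e e' => Subtype.ext (by
      show n * ((e : G) * e') * n⁻¹ * (e * e') = n * e * n⁻¹ * e * (n * e' * n⁻¹ * e')
      rw [(B.cfg.hE.comm _ (hnEm e' e'.2) _ e.2).symm.mul_mul_mul_comm]
      group)
    have hφ : Function.Surjective φ := Finite.injective_iff_surjective.1 ((injective_iff_map_eq_one _).2 fun e he => by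
      refine Subtype.ext (hfpf e e.2 ?_)
      have h1 : n * (e : G) * n⁻¹ * e = 1 := congrArg Subtype.val he
      rwa [← eq_inv_iff_mul_eq_one, inv_eq_of_mul_eq_one_right (B.cfg.hE.sq e e.2)] at h1)
    obtain ⟨⟨f0, hf0⟩, hf0'⟩ := hφ ⟨f, hf⟩
    have hf0f : n * f0 * n⁻¹ * f0 = f := congrArg Subtype.val hf0'
    obtain ⟨v, hv, hvf⟩ := hW.trans f0 hf0
    set b := n * v * n⁻¹ * v⁻¹ with hb
    have hbf := hbrtr v hv f0 hf0 hvf
    rw [hf0f, ← hb] at hbf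
    have h1 := B.vec_tr_mul hW (inv_mem hw) hf (B.vec_tr_inv hW hw hf hwf) hbf
    rw [B.cfg.hE.sq f hf, mul_one] at h1
    rcases hW.inT _ (mul_mem (inv_mem hw) (hbrW1 v hv).1) (mul_inv_eq_iff_eq_mul.1 h1) with h2 | h2
    · exact Or.inl ⟨hw, v, hv, h2⟩
    · right
      have hwu : w * u ∈ W1 := ⟨mul_mem hw hW.u_mem, v, hv, by
        rwa [mul_inv_rev, Invol.inv_self B.cfg.hu, mul_assoc]⟩
      have h3 := huconj _ hwu
      rwa [Invol.inv_self B.cfg.hu, show u * (w * u) * u = u * w * (u * u) by group, B.uu, mul_one] at h3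
  -- other lifts
  have hpres : ∀ n' ∈ normalizer (W0 : Set G), Commute n' u → ∀ k' ∈ K, (∀ e ∈ E, n' * e * n'⁻¹ = k' * e * k'⁻¹) →
      (∀ w ∈ W1, n' * w * n'⁻¹ ∈ W1) ∧ ∀ v ∈ W0, n' * v * n'⁻¹ * v⁻¹ ∈ W1 := by
    intro n' hn'W hn'u k' hk'K hn'E
    have hn'Em : ∀ e ∈ E, n' * e * n'⁻¹ ∈ E := fun e he => hn'E e he ▸ hKE k' hk'K e he
    set d := n⁻¹ * (n' * n * n'⁻¹) with hd
    have hdu : Commute d u := hnu.inv_left.mul_left ((hn'u.mul_left hnu).mul_left hn'u.inv_left)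
    have hdW : d ∈ normalizer (W0 : Set G) := mul_mem (inv_mem hnW) (mul_mem (mul_mem hn'W hnW) (inv_mem hn'W))
    have hdE : ∀ e ∈ E, Commute d e := fun e he => by
      refine mul_inv_eq_iff_eq_mul.1 ?_
      have hkk := B.loc.K_comm k (mem_sup_left hk) k' (mem_sup_left hk'K)
      have he1 : n'⁻¹ * e * n' = k'⁻¹ * e * k' := by
        have h2 : k'⁻¹ * e * k' ∈ E := by simpa using hKE k'⁻¹ (inv_mem hk'K) e he
        calc n'⁻¹ * e * n' = n'⁻¹ * (k' * (k'⁻¹ * e * k') * k'⁻¹) * n' := by group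
          _ = n'⁻¹ * (n' * (k'⁻¹ * e * k') * n'⁻¹) * n' := by rw [hn'E _ h2]
          _ = _ := by group
      have h2 : k'⁻¹ * e * k' ∈ E := by simpa using hKE k'⁻¹ (inv_mem hk'K) e he
      calc d * e * d⁻¹ = n⁻¹ * (n' * (n * (n'⁻¹ * e * n') * n⁻¹) * n'⁻¹) * n := by rw [hd]; group
        _ = n⁻¹ * (k' * (k * (k'⁻¹ * e * k') * k⁻¹) * k'⁻¹) * n := by
          rw [he1, hnE _ h2, hn'E _ (hKE k hk _ h2)]
        _ = n⁻¹ * ((k' * k * k'⁻¹) * e * (k' * k * k'⁻¹)⁻¹) * n := by group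
        _ = n⁻¹ * (n * e * n⁻¹) * n := by rw [← hkk.eq, mul_inv_cancel_right, hnE e he]
        _ = e := by group
    have h1 : ∀ w ∈ W1, n' * w * n'⁻¹ ∈ W1 := by
      rintro w ⟨hw, v, hv, hwv⟩
      set v' := n' * v * n'⁻¹ with hv'
      have hv'W := hmem n' hn'W v hv
      have he := hnEm _ (B.vec_trivial hS hW hdu hdE hdW hv'W)
      set b := n' * (n * v * n⁻¹ * v⁻¹) * n'⁻¹ with hb
      have hbe : b ∈ W1 := by
        refine hW1c (hbrW1 v' hv'W) ?_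
        have e1 : (n * v' * n⁻¹ * v'⁻¹)⁻¹ * b = v' * (n * (v'⁻¹ * (d * v' * d⁻¹)) * n⁻¹) * v'⁻¹ := by
          rw [hb, hd, hv']; group
        rw [e1, (hcE hv'W he).eq, mul_inv_cancel_right]
        exact he
      refine hW1c hbe ?_
      rw [show b⁻¹ * (n' * w * n'⁻¹) = n' * (w⁻¹ * (n * v * n⁻¹ * v⁻¹))⁻¹ * n'⁻¹ by rw [hb]; group]
      exact hn'Em _ (inv_mem hwv)
    refine ⟨h1, fun v hv => ?_⟩
    rcases hsplit v hv with h2 | h2
    · exact mul_mem (h1 v h2) (inv_mem h2)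
    · have h3 := huconj _ (mul_mem (h1 _ h2) (inv_mem h2))
      rwa [show n' * (u * v) * n'⁻¹ = u * (n' * v * n'⁻¹) by rw [← mul_assoc n', hn'u.eq]; group,
        show u * (u * (n' * v * n'⁻¹) * (u * v)⁻¹) * u⁻¹ = (u * u) * (n' * v * n'⁻¹ * v⁻¹) * (u * u)⁻¹ by group,
        B.uu, one_mul, inv_one, mul_one] at h3
  have hnorm : ∀ p ∈ C, ∀ w ∈ W1, p * w * p⁻¹ ∈ W1 := by
    intro p hp w hw
    have hpT := B.cfg.P_le (W.C_le hp)
    have hpW : p ∈ normalizer (W0 : Set G) :=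
      Subgroup.mem_normalizer_fintype fun v hv => hW.norm p (hS.T_le hpT) v hv
    have hpu := B.mem_u hpT
    have hpE : ∀ e ∈ E, p * e * p⁻¹ ∈ E := fun e he => B.cfg.hE.norm p hpT e he
    have hpE' : ∀ e ∈ E, p⁻¹ * e * p ∈ E := fun e he => by simpa using B.cfg.hE.norm p⁻¹ (inv_mem hpT) e he
    set g := p * k * p⁻¹ with hg
    have hgu : Commute g u := (hpu.mul_left (B.loc.K_commute_u hk)).mul_left hpu.inv_left
    obtain ⟨k', hk'K, hk'g⟩ := B.loc.K_full g (B.crit.conj_genC hpu (B.loc.K_le hk))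
      (by rw [hg, mul_smul, mul_smul, inv_smul_eq_iff.2 (B.mem_a hpT).symm, (B.loc.K_fix k hk).1, B.mem_a hpT])
      (by rw [hg, mul_smul, mul_smul, inv_smul_eq_iff.2 (B.cfg.P_fix p (W.C_le hp)).symm, (B.loc.K_fix k hk).2,
        B.cfg.P_fix p (W.C_le hp)])
    have hgE : ∀ e ∈ E, g * e * g⁻¹ = k' * e * k'⁻¹ := fun e he => by
      have h1 : g * e * g⁻¹ ∈ E := by
        rw [hg, show p * k * p⁻¹ * e * (p * k * p⁻¹)⁻¹ = p * (k * (p⁻¹ * e * p) * k⁻¹) * p⁻¹ by group]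
        exact hpE _ (hKE k hk _ (hpE' e he))
      exact B.cfg.hE.inj _ h1 _ (hKE k' hk'K e he) fun q hq => hk'g e he q hq
    obtain ⟨-, h2⟩ := hpres (p * n * p⁻¹) (mul_mem (mul_mem hpW hnW) (inv_mem hpW))
      ((hpu.mul_left hnu).mul_left hpu.inv_left) k' hk'K fun e he => by
        rw [show p * n * p⁻¹ * e * (p * n * p⁻¹)⁻¹ = p * (n * (p⁻¹ * e * p) * n⁻¹) * p⁻¹ by group,
          hnE _ (hpE' e he), ← hgE e he, hg]
        group
    obtain ⟨hw0, v, hv, hwv⟩ := hw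
    refine hW1c (h2 (p * v * p⁻¹) (hmem p hpW v hv)) ?_
    rw [show (p * n * p⁻¹ * (p * v * p⁻¹) * (p * n * p⁻¹)⁻¹ * (p * v * p⁻¹)⁻¹)⁻¹ * (p * w * p⁻¹) =
      p * (w⁻¹ * (n * v * n⁻¹ * v⁻¹))⁻¹ * p⁻¹ by group]
    exact hpE _ (inv_mem hwv)
  have hex : ∀ f : E, ∃ w : W1, (w : G) * u * (w : G)⁻¹ = u * f := fun f => by
    obtain ⟨w, hw, hwf⟩ := hW.trans f f.2
    rcases hsplit w hw with h1 | h1
    · exact ⟨⟨w, h1⟩, hwf⟩
    · refine ⟨⟨u * w, h1⟩, ?_⟩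
      show u * w * u * (u * w)⁻¹ = _
      rw [show u * w * u * (u * w)⁻¹ = u * (w * u * w⁻¹) * u⁻¹ by group, hwf, ← mul_assoc u u, B.uu, one_mul,
        (B.u_comm_E f.2).symm.inv_right.eq, Invol.inv_self B.cfg.hu]
  have hsame : ∀ w ∈ W1, ∀ w' ∈ W1, ∀ f ∈ E, w * u * w⁻¹ = u * f → w' * u * w'⁻¹ = u * f →
      w⁻¹ * w' ∈ E := fun w hw w' hw' f hf h1 h2 => by
    refine hinT _ (mul_mem (inv_mem hw) hw') (mul_inv_eq_iff_eq_mul.1 ?_)
    rw [B.vec_tr_mul hW (inv_mem hw.1) hf (B.vec_tr_inv hW hw.1 hf h1) h2, B.cfg.hE.sq f hf, mul_one]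
  have hcomm : ∀ w ∈ W1, ∀ w' ∈ W1, Commute w w' := by
    suffices hsq : ∀ w ∈ W1, ∀ w' ∈ W1, w * w' * (w * w') = w * w * (w' * w') by
      intro w hw w' hw'
      refine (mul_left_cancel (a := w) (mul_right_cancel (b := w') ?_) : w' * w = w * w').symm
      calc w * (w' * w) * w' = w * w' * (w * w') := by group
        _ = w * w * (w' * w') := hsq w hw w' hw'
        _ = _ := by group
    by_cases hall : ∀ w ∈ W1, w * w = 1
    · intro w hw w' hw'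
      rw [hall _ (mul_mem hw hw'), hall w hw, hall w' hw', one_mul]
    have key : ∃ k0 : G, ∀ w ∈ W1, ∀ f ∈ E, w * u * w⁻¹ = u * f → w * w = k0 * f * k0⁻¹ := by
      push Not at hall
      obtain ⟨w0, hw0, hw01⟩ := hall
      obtain ⟨f0, hf0, hw0f⟩ := B.exists_val_S hS (hW.W_le hw0.1)
      have hf01 : f0 ≠ 1 := fun e => hw01 (by
        rw [e, mul_one] at hw0f
        exact B.cfg.hE.sq w0 (hinT w0 hw0 (mul_inv_eq_iff_eq_mul.1 hw0f)))
      obtain ⟨k0, hk0, hk0f⟩ := B.loc.K_trans f0 hf0 (w0 * w0) (hW.sq w0 hw0.1) hf01 hw01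
      refine ⟨k0, fun w hw f hf hwf => ?_⟩
      by_cases hf1 : f = 1
      · rw [hf1, mul_one] at hwf
        rw [hf1, mul_one, mul_inv_cancel, B.cfg.hE.sq w (hinT w hw (mul_inv_eq_iff_eq_mul.1 hwf))]
      obtain ⟨k', hk'K, hk'f⟩ := B.loc.K_trans f0 hf0 f hf hf01 hf1
      obtain ⟨n', hn'W, hn'u, hn'E⟩ := hW.lift k' hk'K
      have hw' := (hpres n' hn'W hn'u k' hk'K hn'E).1 w0 hw0
      set w' := n' * w0 * n'⁻¹ with hw'def
      have hw'f : w' * u * w'⁻¹ = u * f := by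
        rw [hw'def, hconjtr n' hn'W hn'u w0 f0 hw0f, hn'E f0 hf0, hk'f]
      have he := hsame w' hw' w hw f hf hw'f hwf
      calc w * w = (w' * (w'⁻¹ * w)) * (w' * (w'⁻¹ * w)) := by rw [mul_inv_cancel_left]
        _ = w' * w' * ((w'⁻¹ * w) * (w'⁻¹ * w)) := ((hcE hw'.1 he).symm).mul_mul_mul_comm _ _
        _ = n' * (w0 * w0) * n'⁻¹ := by rw [B.cfg.hE.sq _ he, mul_one, hw'def]; group
        _ = (k' * k0) * f0 * (k' * k0)⁻¹ := by rw [hn'E _ (hW.sq w0 hw0.1), ← hk0f]; group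
        _ = k0 * f * k0⁻¹ := by
          rw [(B.loc.K_comm k' (mem_sup_left hk'K) k0 (mem_sup_left hk0)).eq, ← hk'f]; group
    obtain ⟨k0, hk0⟩ := key
    intro w hw w' hw'
    obtain ⟨f, hf, hwf⟩ := B.exists_val_S hS (hW.W_le hw.1)
    obtain ⟨f', hf', hwf'⟩ := B.exists_val_S hS (hW.W_le hw'.1)
    rw [hk0 w hw f hf hwf, hk0 w' hw' f' hf' hwf',
      hk0 _ (mul_mem hw hw') _ (mul_mem hf hf') (B.vec_tr_mul hW hw.1 hf' hwf hwf')]
    group
  refine ⟨W1, fun w hw => hW.W_le hw.1, hcomm, fun w hw => hW.cenQ w hw.1, fun w hw => hW.sq w hw.1, hEW1, hinT,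
    ?_, hnorm, ?_⟩
  · choose σ hσ using hex
    rw [← B.loc.card_eset, ← Nat.card_prod]
    refine (Nat.card_eq_of_bijective (fun p : E × E => (⟨(σ p.1 : G) * p.2, mul_mem (σ p.1).2 (hEW1 _ p.2.2)⟩ : W1))
      ⟨?_, ?_⟩).symm
    · rintro ⟨f, e⟩ ⟨f', e'⟩ h
      have h1 : (σ f : G) * e = σ f' * e' := congrArg Subtype.val h
      have hu' : ∀ (f : E) (e : E), (σ f : G) * e * u * ((σ f : G) * e)⁻¹ = u * f := fun f e => by
        rw [show (σ f : G) * e * u * ((σ f : G) * e)⁻¹ = σ f * ((e : G) * u * (e : G)⁻¹) * (σ f : G)⁻¹ by group,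
          (B.u_comm_E e.2).symm.eq, mul_inv_cancel_right, hσ f]
      have hf : f = f' := Subtype.ext (mul_left_cancel ((hu' f e).symm.trans (h1 ▸ hu' f' e')))
      subst hf
      exact Prod.ext rfl (Subtype.ext (mul_left_cancel h1))
    · rintro ⟨w, hw⟩
      obtain ⟨f, hf, hwf⟩ := B.exists_val_S hS (hW.W_le hw.1)
      exact ⟨(⟨f, hf⟩, ⟨_, hsame _ (σ ⟨f, hf⟩).2 w hw f hf (hσ _) hwf⟩), Subtype.ext (mul_inv_cancel_left _ _)⟩
  intro s hs
  obtain ⟨f, hf, hsf⟩ := B.exists_val_S hS hs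
  obtain ⟨⟨w, hw⟩, hwf⟩ := hex ⟨f, hf⟩
  change w * u * w⁻¹ = u * f at hwf
  have htS : w⁻¹ * s ∈ (S : Subgroup G) := mul_mem (inv_mem (hW.W_le hw.1)) hs
  have htu : Commute (w⁻¹ * s) u := mul_inv_eq_iff_eq_mul.1 (by
    rw [show w⁻¹ * s * u * (w⁻¹ * s)⁻¹ = w⁻¹ * (s * u * s⁻¹) * w by group, hsf, ← hwf]; group)
  obtain ⟨y, hy, p, hp, he⟩ := B.split_T (B.mem_T_of_two S.2 hS.T_le htS (B.S_fix hS htS) htu)
  rcases W.split p hp with h1 | h1
  · exact ⟨w, hw, y, hy, p, h1, Or.inl (by rw [mul_assoc, ← he, mul_inv_cancel_left])⟩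
  · refine ⟨u * w * u⁻¹, huconj w hw, y, hy, u * p, h1, Or.inr ?_⟩
    rw [show s = w * (y * p) by rw [← he, mul_inv_cancel_left],
      show u * (u * w * u⁻¹ * y * (u * p)) = (u * u) * w * (u⁻¹ * y * u) * p by group, B.uu, one_mul,
      show u⁻¹ * y * u = y by rw [mul_assoc, (B.Q_commute_u hy).eq, inv_mul_cancel_left], mul_assoc]

end LargeBase

end Cfsg.Agent.GoodInvol
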