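import Cfsg.Agent.Lib.GoodInvol.CaseBLarge.Flat
import Cfsg.Agent.Lib.GoodInvol.CaseBLarge.Normal
import Cfsg.Agent.Lib.GoodInvol.CaseBLarge.Vectors
import Cfsg.Agent.Lib.GoodInvol.CaseBLarge.Extremal

/-!
# A large 2-group on two points, unitary type: impossible
-/

set_option autoImplicit false

namespace Cfsg.Agent.GoodInvol

open Subgroup MulAction

universe u

/-- Case B with a 2-group of order at least four on two points. -/
theorem largeStmt : LargeStmt.{u} := by
  intro G _ _ D Ω _ _ _ hB h hgen u a x T E P Q K K1 r L hL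
  have B : LargeBase D u a x T E P Q K K1 r := ⟨h, hB, hgen, L, hL⟩
  obtain ⟨z, C, W⟩ := B.exists_twist
  obtain ⟨S, hTS, hSN, htr, hcard⟩ := B.exists_sylow W
  have hS : SylCfg u a (tSub T) E S r := ⟨hTS, hSN, htr, hcard⟩
  obtain ⟨W0, hW⟩ := B.exists_wcfg hS (B.flatCfg W hS)
  obtain ⟨W1, hV⟩ := B.exists_vec hS hW W
  exact B.false_of_vec W hS hV

end Cfsg.Agent.GoodInvol
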