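import Cfsg.Agent.Lib.GoodInvol.CaseBLarge.Defs

/-!
# A large 2-group on two points: the action on `⟨u⟩ Q` modulo `⟨u⟩ E`

The elements at `a` normalising `E`, `u E` and `⟨u⟩ Q` act on `Q` modulo its centre; `flat` is the kernel.
-/

set_option autoImplicit false
set_option linter.style.haveILetI false
set_option linter.unusedSectionVars false

namespace Cfsg.Agent.GoodInvol

open Subgroup MulAction

universe u

variable {G : Type u} [Group G]

/-- The elements of `⟨u⟩ H`, for `u` of order two commuting with `H`. -/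
def half (H : Subgroup G) (u : G) : Set G := {g | g ∈ H ∨ u * g ∈ H}

/-- The elements at `a` normalising `E`, `u E` and `⟨u⟩ Q`. -/
def nSub {Ω : Type u} [MulAction G Ω] (u : G) (a : Ω) (E Q : Subgroup G) : Subgroup G :=
  cosetNorm E u ⊓ stabilizer G a ⊓ normalizer (half Q u)

open scoped Classical in
/-- The component in `H` of an element of `⟨u⟩ H`. -/
noncomputable def proj (H : Subgroup G) (u g : G) : G := if g ∈ H then g else u * g

theorem proj_mem {H : Subgroup G} {u g : G} (hg : g ∈ half H u) : proj H u g ∈ H := by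
  unfold proj
  split
  · assumption
  · exact hg.resolve_left ‹_›

theorem proj_cases {H : Subgroup G} {u g : G} (hu : u * u = 1) : g = proj H u g ∨ g = u * proj H u g := by
  unfold proj
  split
  · exact Or.inl rfl
  · exact Or.inr (by rw [← mul_assoc, hu, one_mul])

theorem proj_of_mem {H : Subgroup G} {u g : G} (hg : g ∈ H) : proj H u g = g := if_pos hg

theorem proj_mul_u {H : Subgroup G} {u g : G} (hu : u * u = 1) (huH : u ∉ H) (hg : g ∈ H) :
    proj H u (u * g) = g := by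
  rw [proj, if_neg fun e => huH ((H.mul_mem_cancel_right hg).1 e), ← mul_assoc, hu, one_mul]

/-- A kernel inside a subgroup is invariant under that subgroup. -/
theorem map_ker_conj {H : Type u} [Group H] {N : Subgroup G} (f : N →* H) {g : G} (hg : g ∈ N) {v : G}
    (hv : v ∈ f.ker.map N.subtype) : g * v * g⁻¹ ∈ f.ker.map N.subtype := by
  obtain ⟨⟨v, hv'⟩, hk, rfl⟩ := hv
  exact ⟨(⟨g, hg⟩ : N) * ⟨v, hv'⟩ * (⟨g, hg⟩ : N)⁻¹, (MonoidHom.normal_ker f).conj_mem _ hk _, rfl⟩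

variable [Finite G] {Ω : Type u} [MulAction G Ω] [Finite Ω] [FaithfulSMul G Ω] {D : Set G}

namespace LargeBase

variable {u : G} {a x : Ω} {T : Sylow 2 (ptC u a)} {E P Q K K1 : Subgroup G} {r : ℕ}
  (B : LargeBase D u a x T E P Q K K1 r)
include B

theorem u_notMem_E : u ∉ E := fun h => B.u_notMem (B.loc.eset_le h)

theorem u_comm_E {f : G} (hf : f ∈ E) : Commute u f := (B.Q_commute_u (B.loc.eset_le hf)).symm

theorem half_le_T {g : G} (hg : g ∈ half Q u) : g ∈ tSub T := by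
  rcases hg with h | h
  · exact B.loc.Q_le h
  · exact ((tSub T).mul_mem_cancel_left B.u_T).1 (B.loc.Q_le h)

theorem mem_Q_of_half {g : G} (hg : g ∈ half Q u) (hgen : g ∈ genC D u) : g ∈ Q :=
  B.loc.mem_Q.2 ⟨B.half_le_T hg, hgen⟩

theorem proj_mul {g g' : G} (hg : g ∈ half Q u) (hg' : g' ∈ half Q u) :
    g * g' ∈ half Q u ∧ proj Q u (g * g') = proj Q u g * proj Q u g' := by
  have hy := proj_mem hg
  have hy' := proj_mem hg'
  have hyy := mul_mem hy hy'
  rcases proj_cases (H := Q) (g := g) B.uu with e | e <;> rcases proj_cases (H := Q) (g := g') B.uu with e' | e'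
  · rw [← e, ← e'] at hyy
    exact ⟨Or.inl hyy, by rw [proj_of_mem hyy, ← e, ← e']⟩
  · have h1 : g * g' = u * (proj Q u g * proj Q u g') := by
      rw [← mul_assoc u, ← (B.Q_commute_u hy).eq, mul_assoc, ← e', ← e]
    exact ⟨Or.inr (by rw [h1, ← mul_assoc, B.uu, one_mul]; exact hyy), by
      rw [h1, proj_mul_u B.uu B.u_notMem hyy]⟩
  · have h1 : g * g' = u * (proj Q u g * proj Q u g') := by rw [← mul_assoc, ← e, ← e']
    exact ⟨Or.inr (by rw [h1, ← mul_assoc, B.uu, one_mul]; exact hyy), by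
      rw [h1, proj_mul_u B.uu B.u_notMem hyy]⟩
  · have h1 : g * g' = proj Q u g * proj Q u g' := by
      conv_lhs => rw [e, e', mul_assoc u, ← mul_assoc (proj Q u g) u, (B.Q_commute_u hy).eq, mul_assoc u,
        ← mul_assoc u u, B.uu, one_mul]
    exact ⟨Or.inl (by rw [h1]; exact hyy), by rw [h1, proj_of_mem hyy]⟩

theorem mem_stab_n {g : G} (hg : g ∈ nSub u a E Q) : g • a = a := mem_stabilizer_iff.1 hg.1.2

theorem conj_E_n {g : G} (hg : g ∈ nSub u a E Q) {e : G} (he : e ∈ E) : g * e * g⁻¹ ∈ E := (hg.1.1.1 e).2 he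

theorem exists_val {g : G} (hg : g ∈ cosetNorm E u) : ∃ f ∈ E, g * u * g⁻¹ = u * f :=
  ⟨u⁻¹ * (g * u * g⁻¹), (hg.2 u).2 (by rw [inv_mul_cancel]; exact one_mem E), (mul_inv_cancel_left _ _).symm⟩

theorem conj_half {g : G} (hg : g ∈ nSub u a E Q) {t : G} (ht : t ∈ half Q u) : g * t * g⁻¹ ∈ half Q u :=
  (Subgroup.mem_set_normalizer_iff.1 hg.2 t).1 ht

theorem half_Q {y : G} (hy : y ∈ Q) : y ∈ half Q u := Or.inl hy

theorem half_E {y : G} (hy : y ∈ Q) : y ∈ half E u ↔ y ∈ E :=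
  ⟨fun h => h.resolve_right fun h1 => B.u_notMem ((Q.mul_mem_cancel_right hy).1 (B.loc.eset_le h1)), Or.inl⟩

/-- The automorphism of `Q` given by an element of `nSub`. -/
noncomputable def qFun {g : G} (hg : g ∈ nSub u a E Q) : Q →* Q :=
  MonoidHom.mk' (fun y => ⟨proj Q u (g * y * g⁻¹), proj_mem (B.conj_half hg (B.half_Q y.2))⟩) fun y y' =>
    Subtype.ext (by
      show proj Q u (g * ((y : G) * y') * g⁻¹) = proj Q u (g * y * g⁻¹) * proj Q u (g * y' * g⁻¹)
      rw [show g * ((y : G) * y') * g⁻¹ = g * y * g⁻¹ * (g * y' * g⁻¹) by group]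
      exact (B.proj_mul (B.conj_half hg (B.half_Q y.2)) (B.conj_half hg (B.half_Q y'.2))).2)

theorem qFun_coe {g : G} (hg : g ∈ nSub u a E Q) (y : Q) : (B.qFun hg y : G) = proj Q u (g * y * g⁻¹) := rfl

theorem qFun_bij {g : G} (hg : g ∈ nSub u a E Q) : Function.Bijective (B.qFun hg) := by
  refine Finite.injective_iff_bijective.1 ((injective_iff_map_eq_one _).2 fun y hy => ?_)
  have h1 : proj Q u (g * y * g⁻¹) = 1 := congrArg Subtype.val hy
  rcases proj_cases (H := Q) (g := g * (y : G) * g⁻¹) B.uu with e | e <;> rw [h1] at e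
  · exact Subtype.ext (conj_eq_one_iff.1 e)
  · rw [mul_one] at e
    obtain ⟨f, hf, hgf⟩ := B.exists_val (inv_mem hg.1.1)
    exfalso
    refine B.u_notMem ((Q.mul_mem_cancel_right (B.loc.eset_le hf)).1 ?_)
    rw [← hgf]
    nth_rw 1 [← e]
    rw [show g⁻¹ * (g * (y : G) * g⁻¹) * g⁻¹⁻¹ = y by group]
    exact y.2

noncomputable def qAut {g : G} (hg : g ∈ nSub u a E Q) : MulAut Q :=
  MulEquiv.ofBijective (B.qFun hg) (B.qFun_bij hg)

theorem qAut_coe {g : G} (hg : g ∈ nSub u a E Q) (y : Q) : (B.qAut hg y : G) = proj Q u (g * y * g⁻¹) := rfl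

theorem qAut_E {g : G} (hg : g ∈ nSub u a E Q) {e : Q} (he : (e : G) ∈ E) :
    (B.qAut hg e : G) = g * e * g⁻¹ :=
  proj_of_mem (B.loc.eset_le (B.conj_E_n hg he))

theorem qAut_mul {g g' : G} (hg : g ∈ nSub u a E Q) (hg' : g' ∈ nSub u a E Q) :
    (B.qAut hg * B.qAut hg')⁻¹ * B.qAut (mul_mem hg hg') ∈ fixCen Q := by
  intro y
  rw [B.mem_center]
  have key : ∀ y : Q, ((B.qAut hg (B.qAut hg' y) : Q) : G)⁻¹ * B.qAut (mul_mem hg hg') y ∈ E := by
    intro y
    rw [B.qAut_coe hg, B.qAut_coe (mul_mem hg hg'), B.qAut_coe hg',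
      show g * g' * (y : G) * (g * g')⁻¹ = g * (g' * y * g'⁻¹) * g⁻¹ by group]
    set t := g' * (y : G) * g'⁻¹
    have ht : t ∈ half Q u := B.conj_half hg' (B.half_Q y.2)
    have hgt := B.conj_half hg (B.half_Q (proj_mem ht))
    rcases proj_cases (H := Q) (g := t) B.uu with e | e
    · rw [← e, inv_mul_cancel]; exact one_mem E
    · obtain ⟨f, hf, hgf⟩ := B.exists_val hg.1.1
      have huf : u * f ∈ half Q u := Or.inr (by rw [← mul_assoc, B.uu, one_mul]; exact B.loc.eset_le hf)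
      nth_rw 2 [e]
      rw [show g * (u * proj Q u t) * g⁻¹ = (g * u * g⁻¹) * (g * proj Q u t * g⁻¹) by group, hgf,
        (B.proj_mul huf hgt).2, proj_mul_u B.uu B.u_notMem (B.loc.eset_le hf), ← mul_assoc,
        mul_assoc _ f, (B.loc.cen f hf _ (proj_mem hgt)).eq, inv_mul_cancel_left]
      exact hf
  set φ := B.qAut hg * B.qAut hg'
  set ψ := B.qAut (mul_mem hg hg')
  have h1 := key y
  show (y : G)⁻¹ * (φ⁻¹ (ψ y) : Q) ∈ E
  have h2 : φ⁻¹ ((φ y)⁻¹ * ψ y) = y⁻¹ * φ⁻¹ (ψ y) := by rw [map_mul, map_inv, MulAut.inv_apply_self]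
  have h3 : (φ⁻¹ ((φ y)⁻¹ * ψ y) : Q) ∈ Subgroup.center Q := by
    have h4 : (φ y)⁻¹ * ψ y ∈ Subgroup.center Q := B.mem_center.2 h1
    rw [Subgroup.mem_center_iff] at h4 ⊢
    intro w
    apply φ.injective
    simp only [map_mul, MulAut.apply_inv_self]
    exact h4 (φ w)
  rw [h2, B.mem_center] at h3
  exact h3

/-- The action on the quotient. -/
noncomputable def qHom : ↥(nSub u a E Q) →* MulAut Q ⧸ fixCen Q :=
  MonoidHom.mk' (fun g => QuotientGroup.mk (B.qAut g.2)) fun g g' => by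
    rw [← QuotientGroup.mk_mul]
    exact (QuotientGroup.eq.2 (B.qAut_mul g.2 g'.2)).symm

/-- The elements acting trivially. -/
noncomputable def flat : Subgroup G := B.qHom.ker.map (nSub u a E Q).subtype

theorem flat_le : B.flat ≤ nSub u a E Q := map_subtype_le _

theorem mem_flat {g : G} :
    g ∈ B.flat ↔ g ∈ nSub u a E Q ∧ ∀ y ∈ Q, y⁻¹ * (g * y * g⁻¹) ∈ half E u := by
  have key : ∀ hg : g ∈ nSub u a E Q, (⟨g, hg⟩ : nSub u a E Q) ∈ B.qHom.ker ↔
      ∀ y ∈ Q, y⁻¹ * (g * y * g⁻¹) ∈ half E u := by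
    intro hg
    rw [MonoidHom.mem_ker]
    show (QuotientGroup.mk (B.qAut hg) : MulAut Q ⧸ fixCen Q) = 1 ↔ _
    rw [QuotientGroup.eq_one_iff, mem_fixCen]
    constructor
    · intro hf y hy
      have h1 := B.mem_center.1 (hf ⟨y, hy⟩)
      change y⁻¹ * proj Q u (g * y * g⁻¹) ∈ E at h1
      rcases proj_cases (H := Q) (g := g * y * g⁻¹) B.uu with e | e
      · rw [e]; exact Or.inl h1
      · right
        rw [e, ← mul_assoc y⁻¹, (B.Q_commute_u (inv_mem hy)).eq, ← mul_assoc, ← mul_assoc, B.uu, one_mul]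
        exact h1
    · rintro hf ⟨y, hy⟩
      rw [B.mem_center]
      show y⁻¹ * proj Q u (g * y * g⁻¹) ∈ E
      rcases hf y hy with h1 | h1
      · have h2 := mul_mem hy (B.loc.eset_le h1)
        rw [mul_inv_cancel_left] at h2
        rwa [proj_of_mem h2]
      · have h2 : g * y * g⁻¹ = u * (y * (u * (y⁻¹ * (g * y * g⁻¹)))) := by
          rw [← mul_assoc y u, (B.Q_commute_u hy).eq, mul_assoc u y, mul_inv_cancel_left, ← mul_assoc, B.uu, one_mul]
        rw [h2, proj_mul_u B.uu B.u_notMem (mul_mem hy (B.loc.eset_le h1)), inv_mul_cancel_left]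
        exact h1
  constructor
  · rintro ⟨⟨g', hg'⟩, hk, rfl⟩
    exact ⟨hg', (key hg').1 hk⟩
  · rintro ⟨hg, hf⟩
    exact ⟨⟨g, hg⟩, (key hg).2 hf, rfl⟩

theorem flat_conj {g : G} (hg : g ∈ nSub u a E Q) {v : G} (hv : v ∈ B.flat) : g * v * g⁻¹ ∈ B.flat :=
  map_ker_conj B.qHom hg hv

end LargeBase

end Cfsg.Agent.GoodInvol
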